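import Cfsg.Agent.Lib.ModRep.Main
import Cfsg.Agent.Lib.Blk7.CentralQuotient

/-!
# Brauer characters are generalised characters on the regular elements
-/

set_option autoImplicit false
set_option linter.unusedSectionVars false
set_option linter.style.haveILetI false

namespace CfsgLib.ModRep

open Cfsg MonoidAlgebra CfsgLib.Blocks CfsgLib.BrauerPairs CfsgLib.Characters

universe u

section PPrime

variable {H : Type u} [Group H] [Fintype H] {p : ℕ} [hp : Fact p.Prime] {M : Ideal AlgInt}
  [M.IsMaximal] {hM : IsPModular p M}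

theorem isLoc_singleton (hH : ¬ p ∣ Nat.card H) (χ : IrrCharacter H) :
    IsLoc hM (blockIdem {χ}) := by
  classical
  intro x
  rw [coeff_blockIdem, blockCoeff, finsum_mem_singleton]
  refine Subring.mul_mem _ (inv_natCast_mem_lRing hM hH)
    (Subring.mul_mem _ (isIntegral_mem_lRing hM ?_) (isIntegral_mem_lRing hM ?_))
  · rw [(CfsgLib.ClassCount.degree_eq χ).1]; exact isIntegral_natCast _
  · rw [← irr_apply_inv]; exact isIntegral_of_isCharacter (isCharacter_of_irr χ.2) _

/-- A nilpotent left multiplication has zero coefficient at `1`. -/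
theorem coeff_one_eq_zero_of_nilpotent (hH : ¬ p ∣ Nat.card H) {w : MonoidAlgebra (ResK M) H}
    (hw : IsNilpotent w) (hM : IsPModular p M) : w.coeff 1 = 0 := by
  classical
  have := charP_res hM
  have h1 : (LinearMap.trace (ResK M) _ (LinearMap.mulLeft (ResK M) w)) =
      (Nat.card H : ResK M) * w.coeff 1 := by
    rw [show LinearMap.mulLeft (ResK M) w =
        (LinearMap.mulLeft (ResK M) w).comp (LinearMap.mulRight (ResK M) 1) by
      rw [LinearMap.mulRight_one, LinearMap.comp_id],
      LinearMap.trace_eq_matrix_trace (ResK M) (MonoidAlgebra.basis H (ResK M)),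
      ← multMat_eq_toMatrix, Matrix.trace]
    rw [Finset.sum_congr rfl fun y _ => show (multMat w 1).diag y = w.coeff 1 by
      rw [Matrix.diag_apply, multMat, Matrix.of_apply, mul_one, coeff_mul_single_apply]; simp]
    rw [Finset.sum_const, Finset.card_univ, ← Nat.card_eq_fintype_card, nsmul_eq_mul]
  have h2 : IsNilpotent (LinearMap.mulLeft (ResK M) w) := by
    obtain ⟨n, hn⟩ := hw
    exact ⟨n, by rw [LinearMap.pow_mulLeft, hn, LinearMap.mulLeft_zero_eq_zero]⟩
  have h3 := (LinearMap.isNilpotent_trace_of_isNilpotent h2).eq_zero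
  rw [h1, mul_eq_zero] at h3
  exact h3.resolve_left fun h => hH ((CharP.cast_eq_zero_iff (ResK M) p _).1 h)

theorem irr_eq_modChar (hH : ¬ p ∣ Nat.card H) (S : Sys (ResK M) H) (i : Fin S.s) :
    ∃ χ : IrrCharacter H, modChar hM (S.rep i) = (χ : H → ℂ) := by
  classical
  have hreg : ∀ h : H, ¬ p ∣ orderOf h := fun h hh => hH (hh.trans (orderOf_dvd_natCard h))
  have hpR : ∀ χ : IrrCharacter H, pRegularPart p (χ : H → ℂ) = (χ : H → ℂ) := fun χ => by
    funext h
    simp [pRegularPart, IsPRegular, hreg h]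
  set φ := fun i => modChar hM (S.rep i)
  set f : IrrCharacter H → MonoidAlgebra (ResK M) H := fun χ => red hM (blockIdem {χ}) with hf
  -- the characters choose their simple modules
  have hex : ∀ χ : IrrCharacter H, ∃ j, algRep (S.rep j) (f χ) = 1 := by
    intro χ
    by_contra! h
    have h1 := pRegularPart_mem_span (hM := hM) (isLoc_singleton hH χ) S (Set.mem_singleton χ)
    rw [show {i | algRep (S.rep i) (red hM (blockIdem {χ})) = 1} = (∅ : Set (Fin S.s)) from
      Set.eq_empty_iff_forall_notMem.2 h, Set.image_empty, Submodule.span_empty, Submodule.mem_bot,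
      hpR] at h1
    exact irr_one_ne_zero χ (congrFun h1 1)
  choose pick hpick using hex
  have hdisj : ∀ χ χ' : IrrCharacter H, χ ≠ χ' → ∀ j,
      algRep (S.rep j) (f χ) = 1 → algRep (S.rep j) (f χ') = 1 → False := by
    intro χ χ' hne j h h'
    have h0 : f χ * f χ' = 0 := by
      have he : blockIdem ({χ} : Set (IrrCharacter H)) * blockIdem {χ'} = 0 := by
        rw [blockIdem_mul, Set.singleton_inter_eq_empty.2 (Set.mem_singleton_iff.not.2 hne),
          blockIdem_empty]
      simp only [hf]
      rw [← red_mul (isLoc_singleton hH χ) (isLoc_singleton hH χ'), he]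
      simpa using red_sum (hM := hM) (∅ : Finset Unit) (a := fun _ => (1 : MonoidAlgebra ℂ H))
        fun _ => by simpa [one_def] using isLoc_single (hM := hM) (1 : H)
    have h1 := congrArg (algRep (S.rep j)) h0
    rw [map_mul, h, h', map_zero, one_mul] at h1
    obtain ⟨v, hv⟩ := @exists_ne _ (S.isSimp_rep j).1 0
    exact hv (LinearMap.congr_fun h1 v)
  have hinj : Function.Injective pick := fun χ χ' h => by
    by_contra hne
    exact hdisj χ χ' hne _ (hpick χ) (h ▸ hpick χ')
  have hle : Fintype.card (Fin S.s) ≤ Fintype.card (IrrCharacter H) := by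
    have h1 := finrank_span_eq_card (modChar_linearIndependent (hM := hM) S)
    have h2 : Submodule.span ℂ (Set.range φ) ≤
        Submodule.span ℂ (Set.range fun χ : IrrCharacter H => (χ : H → ℂ)) := by
      rw [Submodule.span_le]
      rintro _ ⟨j, rfl⟩
      have := modChar_mem_regularSpan (hM := hM) (S.rep j)
      simp only [hpR] at this
      exact this
    have h3 := Submodule.finrank_mono h2
    rw [finrank_span_eq_card irr_linearIndependent] at h3
    exact h1 ▸ h3
  have hbij : Function.Bijective pick :=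
    (Fintype.bijective_iff_injective_and_card _).2
      ⟨hinj, le_antisymm (Fintype.card_le_of_injective _ hinj) hle⟩
  obtain ⟨χ, rfl⟩ := hbij.2 i
  refine ⟨χ, ?_⟩
  have hidx : {j | algRep (S.rep j) (red hM (blockIdem {χ})) = 1} = {pick χ} := by
    ext j
    refine ⟨fun hj => ?_, fun hj => hj ▸ hpick χ⟩
    obtain ⟨χ', rfl⟩ := hbij.2 j
    by_contra hne
    exact hdisj χ' χ (fun h => hne (by rw [h]; rfl)) _ (hpick χ') hj
  have h1 := pRegularPart_mem_span (hM := hM) (isLoc_singleton hH χ) S (Set.mem_singleton χ)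
  rw [hidx, Set.image_singleton, Submodule.mem_span_singleton, hpR] at h1
  obtain ⟨c, hc⟩ := h1
  -- the degree is the dimension
  set i := pick χ
  set e := f χ with he
  set W := LinearMap.range (LinearMap.mulRight (ResK M) e)
  have hzero : ∀ j, j ≠ i → S.π e j = 0 := by
    intro j hj
    obtain ⟨χ', rfl⟩ := hbij.2 j
    have hcomm : ∀ g, single g (1 : ResK M) * e = e * single g 1 := fun g =>
      (red_comm_blockIdem (isLoc_singleton hH χ) _).symm
    rcases (S.isSimp_rep (pick χ')).idem_comm (red_blockIdem_idem (isLoc_singleton hH χ)) hcomm with h | h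
    · rw [Sys.algRep_rep] at h
      exact (Matrix.toLin'.map_eq_zero_iff).1 h
    · exact absurd rfl (fun _ : (1 : ℕ) = 1 => hdisj χ' χ (fun h => hj (by rw [h])) _ (hpick χ') h)
  have hone : S.π e i = 1 := by
    have h := hpick χ
    rw [Sys.algRep_rep, ← he] at h
    exact Matrix.toLin'.injective (h.trans (Matrix.toLin'_one).symm)
  let T : W →ₗ[ResK M] Matrix (Fin (S.d i)) (Fin (S.d i)) (ResK M) :=
    (LinearMap.proj i).comp (S.π.toLinearMap.comp W.subtype)
  have hTbij : Function.Bijective T := by
    constructor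
    · rw [← LinearMap.ker_eq_bot, LinearMap.ker_eq_bot']
      rintro ⟨_, x, rfl⟩ hw
      have hπ : S.π (x * e) = 0 := by
        funext j
        by_cases hj : j = i
        · subst hj; exact hw
        · rw [map_mul, Pi.mul_apply, hzero j hj, mul_zero]; rfl
      apply Subtype.ext
      show x * e = 0
      ext y
      have h := coeff_one_eq_zero_of_nilpotent hH
        (S.nil (x * e * single y⁻¹ 1) (by rw [map_mul, hπ, zero_mul])) hM
      rw [coeff_mul_single_apply] at h
      simpa using h
    · intro m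
      obtain ⟨x, hx⟩ := S.surj (Pi.single i m)
      exact ⟨⟨x * e, x, rfl⟩, by
        show S.π (x * e) i = m
        rw [map_mul, Pi.mul_apply, hx, Pi.single_eq_same, hone, mul_one]⟩
  have hdim := (LinearEquiv.ofBijective T hTbij).finrank_eq
  rw [Module.finrank_matrix, Module.finrank_self, mul_one, Fintype.card_fin] at hdim
  have h4 := rank_multMat_red (hM := hM) (a := 1) (b := blockIdem ({χ} : Set (IrrCharacter H)))
    (by simpa [one_def] using isLoc_single (hM := hM) (1 : H)) (isLoc_singleton hH χ) (one_mul 1)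
    (isIdempotentElem_blockIdem _)
  rw [red_one, LinearMap.mulLeft_one, LinearMap.id_comp, hdim] at h4
  simp only [omega_one, omega_blockIdem, Set.mem_singleton_iff, mul_ite, mul_one, mul_zero,
    Finset.sum_ite_eq', Finset.mem_univ, if_true] at h4
  rw [(CfsgLib.ClassCount.degree_eq χ).1] at h4
  push_cast at h4
  have h5 : S.d i = charDegree (χ : H → ℂ) := by
    have : S.d i * S.d i = charDegree (χ : H → ℂ) ^ 2 := by exact_mod_cast h4
    rw [sq] at this
    exact Nat.mul_self_inj.1 this
  have h6 := congrFun hc 1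
  rw [Pi.smul_apply, smul_eq_mul, modChar_one, Module.finrank_fin_fun, h5,
    ← (CfsgLib.ClassCount.degree_eq χ).1] at h6
  have hc1 : c = 1 := mul_right_cancel₀ (irr_one_ne_zero χ) (by rw [h6, one_mul])
  rw [hc1, one_smul] at hc
  exact hc

end PPrime

variable {G : Type u} [Group G] [Fintype G] {p : ℕ} [hp : Fact p.Prime] {M : Ideal AlgInt}
  [M.IsMaximal] {hM : IsPModular p M}

theorem coef_mem (hM : IsPModular p M) {m : ℕ} (hm : ¬ p ∣ m) (hm0 : 0 < m) (j i : ℕ) :
    (m : ℂ)⁻¹ * ((Complex.exp (2 * Real.pi * Complex.I / m) ^ j)⁻¹) ^ i ∈ lRing hM :=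
  Subring.mul_mem _ (inv_natCast_mem_lRing hM hm) (Subring.pow_mem _ (isIntegral_mem_lRing hM
    (IsIntegral.of_pow hm0 (by
      rw [inv_pow, ← pow_mul, Nat.mul_comm j m, pow_mul,
        (Complex.isPrimitiveRoot_exp m hm0.ne').pow_eq_one, one_pow, inv_one]
      exact isIntegral_one))) i)

theorem algRep_red_eigC {V : Type*} [AddCommGroup V] [Module (ResK M) V]
    (ρ : G →* Module.End (ResK M) V) {g : G} {m : ℕ} (hgm : orderOf g = m) (hg : ¬ p ∣ m)
    (hm0 : 0 < m) (j : ℕ) :
    algRep ρ (red hM (eigC g j)) = ∑ i ∈ Finset.range m,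
      resK hM ⟨_, coef_mem hM hg hm0 j i⟩ • ρ g ^ i := by
  subst hgm
  have hz : ∀ i : ℕ, (orderOf g : ℂ)⁻¹ * ((zeta g ^ j)⁻¹) ^ i ∈ lRing hM := fun i =>
    coef_mem hM hg hm0 j i
  rw [show eigC g j = ∑ i ∈ Finset.range (orderOf g),
      ((orderOf g : ℂ)⁻¹ * ((zeta g ^ j)⁻¹) ^ i) • single (g ^ i) (1 : ℂ) by
    rw [eigC, Finset.smul_sum]
    simp [smul_single]]
  rw [red_sum _ (fun i x => by
    rw [coeff_smul_apply, smul_eq_mul]
    exact Subring.mul_mem _ (hz i) (isLoc_single _ x)), map_sum]
  refine Finset.sum_congr rfl fun i _ => ?_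
  rw [red_smul (isLoc_single _) (hz i), map_smul, red_single, algRep_single, one_smul, map_pow]
  rfl

/-- Brauer characters restrict. -/
theorem modChar_subgroup {V : Type*} [AddCommGroup V] [Module (ResK M) V]
    (ρ : G →* Module.End (ResK M) V) (H : Subgroup G) [Fintype H] (h : H) :
    modChar hM (ρ.comp H.subtype) h = modChar hM ρ (h : G) := by
  by_cases hh : p ∣ orderOf h
  · rw [modChar_of_singular _ hh, modChar_of_singular _ (by rwa [Subgroup.orderOf_coe])]
  · have hh' : ¬ p ∣ orderOf (h : G) := by rwa [Subgroup.orderOf_coe]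
    rw [modChar_of_regular _ hh, modChar_of_regular _ hh']
    refine Finset.sum_congr (by rw [Subgroup.orderOf_coe]) fun j _ => ?_
    rw [rankAt, rankAt, algRep_red_eigC _ rfl hh (orderOf_pos h),
      algRep_red_eigC _ (Subgroup.orderOf_coe h) hh (orderOf_pos h)]
    simp only [zeta, Subgroup.orderOf_coe, MonoidHom.comp_apply, Subgroup.coe_subtype]
    rfl

/-- The Brauer character, read at the regular part, is a generalised character. -/
theorem isGeneralizedCharacter_modChar {d : ℕ}
    (ρ : G →* Module.End (ResK M) (Fin d → ResK M)) :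
    IsGeneralizedCharacter G (fun g => modChar hM ρ (g ^ CentralQuot.regExp G p)) := by
  classical
  have := BPStar.isAlgClosed_res hM
  set K := CentralQuot.regExp G p with hK
  have hcl : IsClassFunction G (fun g => modChar hM ρ (g ^ K)) := fun g h => by
    show modChar hM ρ ((h * g * h⁻¹) ^ K) = modChar hM ρ (g ^ K)
    rw [conj_pow, modChar_conj]
  refine BrauerInd.isGeneralizedCharacter_of_elementary hcl fun r E hr hE => ?_
  obtain ⟨x, hx, hxr, c, hc⟩ := hE
  obtain ⟨hi1, hi2, -⟩ := (CentralQuot.exists_exponent (C := G) (p := p)).choose_spec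
  have hcen : (Subgroup.center E).index ∣ r ^ c :=
    hc ▸ Subgroup.index_dvd_of_le (Subgroup.zpowers_le.2 hx)
  have hcase : (Subgroup.center E).index ∣ K ∨ (Subgroup.center E).index ∣ K - 1 := by
    have hdC : (Subgroup.center E).index ∣ p ^ (Nat.card G).factorization p *
        (Nat.card G / p ^ (Nat.card G).factorization p) := by
      rw [Nat.ordProj_mul_ordCompl_eq_self]
      exact (Subgroup.index_dvd_card _).trans (Subgroup.card_subgroup_dvd_card E)
    obtain ⟨l, -, hl⟩ := (Nat.dvd_prime_pow hr).1 hcen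
    rw [hl] at hdC ⊢
    by_cases hrp : r = p
    · left
      refine dvd_trans ?_ hi1
      refine Nat.Coprime.dvd_of_dvd_mul_right ?_ hdC
      rw [hrp]
      exact (Nat.coprime_ordCompl hp.out Nat.card_pos.ne').pow_left _
    · right
      refine dvd_trans ?_ hi2
      exact Nat.Coprime.dvd_of_dvd_mul_left
        (((Nat.coprime_primes hr hp.out).2 hrp).pow l _) hdC
  let ψ : E →* G := MonoidHom.mk' (fun y : E => (y : G) ^ K) fun a b => by
    simpa using congrArg Subtype.val (CentralQuot.pow_mul_distrib hcase a b)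
  have hH : ¬ p ∣ Nat.card ψ.range := by
    intro hd
    obtain ⟨⟨z, y, rfl⟩, hz⟩ := exists_prime_orderOf_dvd_card' p hd
    rw [← Subgroup.orderOf_coe] at hz
    exact CentralQuot.regular_pow_regExp (p := p) (y : G) (by
      have : orderOf ((y : G) ^ K) = p := hz
      rw [← hK, this])
  let σ := ρ.comp ψ.range.subtype
  obtain ⟨S⟩ := exists_sys (K := ResK M) (G := ψ.range)
  obtain ⟨a, -, ha⟩ := exists_modChar_eq (hM := hM) S σ
  have h1 : IsGeneralizedCharacter ψ.range (modChar hM σ) := by
    rw [ha]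
    refine isGeneralizedCharacter_sum _ fun i _ => ?_
    obtain ⟨χ, hχ⟩ := irr_eq_modChar (hM := hM) hH S i
    rw [hχ]
    exact isGeneralizedCharacter_natCast_smul (isGeneralizedCharacter_irr χ) _
  have h2 : (fun y : E => modChar hM ρ ((y : G) ^ K)) = fun y => modChar hM σ (ψ.rangeRestrict y) := by
    funext y
    rw [modChar_subgroup]
    rfl
  show IsGeneralizedCharacter E (fun y : E => modChar hM ρ ((y : G) ^ K))
  rw [h2]
  obtain ⟨u, v, hu, hv, huv⟩ := h1
  exact ⟨_, _, CharGalois.isCharacter_comp hu ψ.rangeRestrict,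
    CharGalois.isCharacter_comp hv ψ.rangeRestrict, by rw [huv]; rfl⟩

/-- A Brauer character is an integral combination of the restrictions of the characters. -/
theorem exists_int_comb {d : ℕ} (ρ : G →* Module.End (ResK M) (Fin d → ResK M)) :
    ∃ a : IrrCharacter G → ℤ,
      modChar hM ρ = ∑ χ : IrrCharacter G, (a χ : ℂ) • pRegularPart p (χ : G → ℂ) := by
  obtain ⟨hcl, hint⟩ := isGeneralizedCharacter_iff.1 (isGeneralizedCharacter_modChar (hM := hM) ρ)
  choose a ha using hint
  refine ⟨a, funext fun g => ?_⟩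
  simp only [Finset.sum_apply, Pi.smul_apply, smul_eq_mul, pRegularPart]
  by_cases hg : p ∣ orderOf g
  · simp [IsPRegular, hg, modChar_of_singular ρ hg]
  · have := congrFun (classFunction_eq_sum hcl) g
    simp only [Finset.sum_apply, Pi.smul_apply, smul_eq_mul, ha,
      CentralQuot.pow_regExp_of_regular hg] at this
    simpa [IsPRegular, hg] using this

/-- When the members of a block agree on the regular elements, the dimension of a simple module of
the block is at least their degree. -/
theorem dim_eq_of_regular_eq (hM : IsPModular p M) {B : Set (IrrCharacter G)} (hB : IsPBlock M B)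
    (h : ∀ χ ∈ B, ∀ ψ ∈ B, ∀ g : G, ¬ p ∣ orderOf g → (χ : G → ℂ) g = (ψ : G → ℂ) g)
    {d : ℕ} {rho : G →* Module.End (ResK M) (Fin d → ResK M)} (hs : IsSimpleRep rho)
    (hb : InBlock hM B rho) {χ : IrrCharacter G} (hχ : χ ∈ B) :
    charDegree (χ : G → ℂ) ≤ d := by
  classical
  have := BPStar.isAlgClosed_res hM
  obtain ⟨S⟩ := exists_sys (K := ResK M) (G := G)
  obtain ⟨i, L, hL⟩ := S.exists_equiv hs.isSimp
  have hi : i ∈ blockIdx S hM B := by
    apply LinearMap.ext
    intro v
    apply L.injective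
    rw [Sys.algRep_equiv L hL]
    exact LinearMap.congr_fun hb (L v)
  set φ := fun i => modChar hM (S.rep i)
  set r := fun ψ : IrrCharacter G => pRegularPart p (ψ : G → ℂ)
  obtain ⟨a, ha⟩ := exists_int_comb (hM := hM) (S.rep i)
  have hspan := span_blockIdx (hM := hM) S hB
  have hsplit : φ i = ∑ ψ ∈ Finset.univ.filter (· ∈ B), (a ψ : ℂ) • r ψ := by
    have hrest : φ i - ∑ ψ ∈ Finset.univ.filter (· ∈ B), (a ψ : ℂ) • r ψ =
        ∑ ψ ∈ Finset.univ.filter (fun ψ => ¬ ψ ∈ B), (a ψ : ℂ) • r ψ := by
      simp only [φ, ha]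
      rw [← Finset.sum_filter_add_sum_filter_not Finset.univ (· ∈ B)]
      abel
    rw [← sub_eq_zero]
    refine Submodule.disjoint_def.1 ((modChar_linearIndependent (hM := hM) S).disjoint_span_image
      (disjoint_compl_right (a := blockIdx S hM B))) _ ?_ ?_
    · refine Submodule.sub_mem _ (Submodule.subset_span ⟨i, hi, rfl⟩) ?_
      rw [← hspan]
      exact Submodule.sum_mem _ fun ψ hψ => Submodule.smul_mem _ _
        (Submodule.subset_span ⟨ψ, (Finset.mem_filter.1 hψ).2, rfl⟩)
    · rw [hrest]
      refine Submodule.sum_mem _ fun ψ hψ => Submodule.smul_mem _ _ ?_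
      have hψB := (Finset.mem_filter.1 hψ).2
      have hB' : IsPBlock M (blockOf M (ψ : G → ℂ)) := isPBlock_blockOf ψ
      have h1 : r ψ ∈ Submodule.span ℂ ((fun i => modChar hM (S.rep i)) ''
          blockIdx S hM (blockOf M (ψ : G → ℂ))) := by
        rw [← span_blockIdx (hM := hM) S hB']
        exact Submodule.subset_span ⟨ψ, mem_blockOf_self hM ψ, rfl⟩
      refine Submodule.span_mono (Set.image_mono ?_) h1
      intro j hj hjB
      apply hψB
      rw [isSimp_inBlock_unique (hM := hM) (S.isSimp_rep j) hB hB' hjB hj]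
      exact mem_blockOf_self hM ψ
  set N : ℤ := ∑ ψ ∈ Finset.univ.filter (· ∈ B), a ψ
  have hφ : φ i = (N : ℂ) • r χ := by
    rw [hsplit, Int.cast_sum, Finset.sum_smul]
    refine Finset.sum_congr rfl fun ψ hψ => ?_
    congr 1
    funext g
    simp only [r, pRegularPart]
    split_ifs with hg
    · exact h ψ (Finset.mem_filter.1 hψ).2 χ hχ g hg
    · rfl
  have h1 := congrFun hφ 1
  simp only [φ, r, Pi.smul_apply, smul_eq_mul, pRegularPart] at h1
  rw [modChar_one, Module.finrank_fin_fun, if_pos (by simpa [IsPRegular] using hp.out.ne_one),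
    (CfsgLib.ClassCount.degree_eq χ).1] at h1
  have h2 : (S.d i : ℤ) = N * (charDegree (χ : G → ℂ) : ℤ) := by exact_mod_cast h1
  have hd : d = S.d i := by
    simpa using L.finrank_eq.symm
  rw [hd]
  have h3 : (charDegree (χ : G → ℂ) : ℤ) ∣ (S.d i : ℤ) := Dvd.intro_left _ h2.symm
  exact Nat.le_of_dvd (S.pos i) (Int.natCast_dvd_natCast.1 h3)

end CfsgLib.ModRep
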