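import Mathlib.RingTheory.SimpleModule.IsAlgClosed
import Mathlib.RingTheory.Artinian.Module
import Mathlib.RepresentationTheory.Basic
import Mathlib.LinearAlgebra.Projection
import Mathlib.LinearAlgebra.Trace
import Mathlib.LinearAlgebra.Matrix.ToLin
import Mathlib.Algebra.CharP.Algebra
import Mathlib.Algebra.CharP.Lemmas

/-!
# Simple modules of a group algebra over an algebraically closed field
-/

set_option autoImplicit false
set_option linter.unusedSectionVars false
set_option linter.style.haveILetI false

namespace CfsgLib.ModRep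

open MonoidAlgebra

universe u w

variable {K : Type*} [Field K] {G : Type u} [Group G]

/-- The representation extended to the group algebra. -/
noncomputable def algRep {V : Type*} [AddCommGroup V] [Module K V] (ρ : G →* Module.End K V) :
    MonoidAlgebra K G →ₐ[K] Module.End K V :=
  MonoidAlgebra.lift K (Module.End K V) G ρ

@[simp] theorem algRep_single {V : Type*} [AddCommGroup V] [Module K V] (ρ : G →* Module.End K V)
    (g : G) (r : K) : algRep ρ (single g r) = r • ρ g := MonoidAlgebra.lift_single _ _ _

/-- The rank of the operator of an element of the group algebra. -/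
noncomputable def rankAt {V : Type*} [AddCommGroup V] [Module K V] (ρ : G →* Module.End K V)
    (a : MonoidAlgebra K G) : ℕ :=
  Module.finrank K (LinearMap.range (algRep ρ a))

/-- Invariance of a subspace. -/
def Invariant {V : Type*} [AddCommGroup V] [Module K V] (ρ : G →* Module.End K V)
    (W : Submodule K V) : Prop :=
  ∀ g, ∀ v ∈ W, ρ g v ∈ W

/-- Simplicity of a representation on a coordinate space or any other space. -/
def IsSimp {V : Type*} [AddCommGroup V] [Module K V] (ρ : G →* Module.End K V) : Prop :=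
  Nontrivial V ∧ ∀ W : Submodule K V, Invariant ρ W → W = ⊥ ∨ W = ⊤

section Rep

variable {V : Type*} [AddCommGroup V] [Module K V] {ρ : G →* Module.End K V}

theorem Invariant.algRep_mem {W : Submodule K V} (hW : Invariant ρ W) (a : MonoidAlgebra K G)
    {v : V} (hv : v ∈ W) : algRep ρ a v ∈ W := by
  induction a using MonoidAlgebra.induction_on with
  | of g => simpa using hW g v hv
  | add x y hx hy => rw [map_add, LinearMap.add_apply]; exact W.add_mem hx hy
  | smul r x hx => rw [map_smul, LinearMap.smul_apply]; exact W.smul_mem r hx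

/-- The restriction to an invariant subspace. -/
def subRep {W : Submodule K V} (hW : Invariant ρ W) : G →* Module.End K W where
  toFun g := (ρ g).restrict (hW g)
  map_one' := LinearMap.ext fun v => Subtype.ext (by simp)
  map_mul' g h := LinearMap.ext fun v => Subtype.ext (by simp)

/-- The action on the quotient by an invariant subspace. -/
def quotRep {W : Submodule K V} (hW : Invariant ρ W) : G →* Module.End K (V ⧸ W) where
  toFun g := W.mapQ W (ρ g) (hW g)
  map_one' := Submodule.linearMap_qext _ (LinearMap.ext fun v => by simp)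
  map_mul' g h := Submodule.linearMap_qext _ (LinearMap.ext fun v => by simp)

theorem algRep_subRep {W : Submodule K V} (hW : Invariant ρ W) (a : MonoidAlgebra K G) (v : W) :
    ((algRep (subRep hW) a v : W) : V) = algRep ρ a v := by
  induction a using MonoidAlgebra.induction_on with
  | of g => simp [subRep]
  | add x y hx hy => simp [map_add, hx, hy]
  | smul r x hx => simp [map_smul, hx]

theorem algRep_quotRep {W : Submodule K V} (hW : Invariant ρ W) (a : MonoidAlgebra K G) (v : V) :
    algRep (quotRep hW) a (Submodule.Quotient.mk v) = Submodule.Quotient.mk (algRep ρ a v) := by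
  induction a using MonoidAlgebra.induction_on with
  | of g => simp [quotRep]
  | add x y hx hy => simp [map_add, hx, hy]
  | smul r x hx => simp [map_smul, hx]

/-- Ranks of idempotents add up along an invariant subspace. -/
theorem rankAt_add [FiniteDimensional K V] {W : Submodule K V} (hW : Invariant ρ W)
    {e : MonoidAlgebra K G} (he : e * e = e) :
    rankAt ρ e = rankAt (subRep hW) e + rankAt (quotRep hW) e := by
  set f := algRep ρ e
  have hf : ∀ v, f (f v) = f v := fun v => by
    rw [← Module.End.mul_apply, ← map_mul, he]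
  have h1 := LinearMap.finrank_range_add_finrank_ker (W.mkQ.comp (LinearMap.range f).subtype)
  have h2 : LinearMap.range (W.mkQ.comp (LinearMap.range f).subtype) =
      LinearMap.range (algRep (quotRep hW) e) := by
    ext x
    constructor
    · rintro ⟨⟨_, w, rfl⟩, rfl⟩
      exact ⟨Submodule.Quotient.mk w, by rw [algRep_quotRep]; rfl⟩
    · rintro ⟨y, rfl⟩
      obtain ⟨w, rfl⟩ := Submodule.Quotient.mk_surjective W y
      exact ⟨⟨f w, w, rfl⟩, by rw [algRep_quotRep]; rfl⟩
  let φ : LinearMap.range (algRep (subRep hW) e) →ₗ[K]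
      LinearMap.ker (W.mkQ.comp (LinearMap.range f).subtype) :=
    { toFun := fun w => ⟨⟨((w : W) : V), by
          obtain ⟨u, hu⟩ := w.2
          exact ⟨u, by rw [← hu, algRep_subRep]⟩⟩,
        LinearMap.mem_ker.2 ((Submodule.Quotient.mk_eq_zero W).2 (w : W).2)⟩
      map_add' := fun a b => rfl
      map_smul' := fun r a => rfl }
  have h3 : Function.Bijective φ := by
    refine ⟨fun a b h => Subtype.ext (Subtype.ext
      (congrArg (fun z : LinearMap.ker (W.mkQ.comp (LinearMap.range f).subtype) =>
        ((z : LinearMap.range f) : V)) h)), ?_⟩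
    rintro ⟨⟨v, w, rfl⟩, hv⟩
    have hvW : f w ∈ W := (Submodule.Quotient.mk_eq_zero W).1 (LinearMap.mem_ker.1 hv)
    exact ⟨⟨⟨f w, hvW⟩, ⟨⟨f w, hvW⟩, Subtype.ext (by rw [algRep_subRep]; exact hf w)⟩⟩, rfl⟩
  have h4 := (LinearEquiv.ofBijective φ h3).finrank_eq
  rw [h2] at h1
  change rankAt (quotRep hW) e + _ = rankAt ρ e at h1
  change rankAt (subRep hW) e = _ at h4
  omega

theorem IsSimp.idem_comm (hs : IsSimp ρ) {e : MonoidAlgebra K G} (he : e * e = e)
    (hc : ∀ g, single g (1 : K) * e = e * single g 1) : algRep ρ e = 0 ∨ algRep ρ e = 1 := by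
  have hinv : Invariant ρ (LinearMap.range (algRep ρ e)) := by
    rintro g _ ⟨w, rfl⟩
    refine ⟨ρ g w, ?_⟩
    have := congrArg (fun a => algRep ρ a w) (hc g)
    simpa [map_mul] using this.symm
  rcases hs.2 _ hinv with h | h
  · exact Or.inl (LinearMap.range_eq_bot.1 h)
  · refine Or.inr (LinearMap.ext fun v => ?_)
    obtain ⟨w, rfl⟩ := LinearMap.range_eq_top.1 h v
    rw [Module.End.one_apply, ← Module.End.mul_apply, ← map_mul, he]

/-- The trace at a group element only sees the regular part. -/
theorem trace_eq_of_pow_prime_eq_one [FiniteDimensional K V] {p : ℕ} [CharP K p] [Fact p.Prime]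
    {u s : G} (hc : Commute u s) {k : ℕ} (hu : u ^ p ^ k = 1) :
    LinearMap.trace K V (ρ (u * s)) = LinearMap.trace K V (ρ s) := by
  have hn : IsNilpotent (ρ u - 1) := by
    refine ⟨p ^ k, ?_⟩
    rcases subsingleton_or_nontrivial V with hV | hV
    · exact Subsingleton.elim _ _
    · have : CharP (Module.End K V) p := charP_of_injective_ringHom (algebraMap K (Module.End K V)).injective p
      rw [sub_pow_char_pow_of_commute _ _ (Commute.one_right _), ← map_pow, hu, map_one, one_pow, sub_self]
  have hcc : Commute (ρ u - 1) (ρ s) := ((hc.map ρ).sub_left (Commute.one_left _))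
  have h0 := (LinearMap.isNilpotent_trace_of_isNilpotent (hcc.isNilpotent_mul_right hn)).eq_zero
  rw [sub_mul, one_mul, map_sub, sub_eq_zero, ← map_mul] at h0
  exact h0

end Rep

variable (K G)

/-- A split semisimple quotient of the group algebra with nilpotent kernel. -/
structure Sys where
  s : ℕ
  d : Fin s → ℕ
  pos : ∀ i, 0 < d i
  π : MonoidAlgebra K G →ₐ[K] ∀ i, Matrix (Fin (d i)) (Fin (d i)) K
  surj : Function.Surjective π
  nil : ∀ a, π a = 0 → IsNilpotent a

theorem exists_sys [IsAlgClosed K] [Finite G] : Nonempty (Sys K G) := by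
  have : Module.Finite K (MonoidAlgebra K G) :=
    Module.Finite.of_basis (MonoidAlgebra.basis G K)
  have : IsArtinianRing (MonoidAlgebra K G) := IsArtinianRing.of_finite K _
  set J := Ring.jacobson (MonoidAlgebra K G)
  have : IsSemisimpleRing (MonoidAlgebra K G ⧸ J) := IsSemiprimaryRing.isSemisimpleRing
  obtain ⟨n, d, hd, ⟨e⟩⟩ :=
    IsSemisimpleRing.exists_algEquiv_pi_matrix_of_isAlgClosed K (MonoidAlgebra K G ⧸ J)
  refine ⟨⟨n, d, fun i => Nat.pos_of_ne_zero (hd i).out, e.toAlgHom.comp (Ideal.Quotient.mkₐ K J),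
    e.surjective.comp Ideal.Quotient.mk_surjective, fun a ha => ?_⟩⟩
  have haJ : a ∈ J := Ideal.Quotient.eq_zero_iff_mem.1 (e.injective (ha.trans (map_zero e).symm))
  obtain ⟨N, hN⟩ := IsSemiprimaryRing.isNilpotent (R := MonoidAlgebra K G)
  refine ⟨N, ?_⟩
  have := Ideal.pow_mem_pow haJ N
  rwa [hN] at this

variable {K G}

namespace Sys

variable (S : Sys K G)

/-- The simple representations of the system. -/
noncomputable def rep (i : Fin S.s) : G →* Module.End K (Fin (S.d i) → K) where
  toFun g := Matrix.toLin' (S.π (single g 1) i)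
  map_one' := by rw [← one_def, map_one, Pi.one_apply, Matrix.toLin'_one]; rfl
  map_mul' g h := by
    rw [show single (g * h) (1 : K) = single g 1 * single h 1 by simp, map_mul, Pi.mul_apply,
      Matrix.toLin'_mul]
    rfl

theorem algRep_rep (i : Fin S.s) (a : MonoidAlgebra K G) :
    algRep (S.rep i) a = Matrix.toLin' (S.π a i) := by
  induction a using MonoidAlgebra.induction_on with
  | of g => simp [rep]
  | add x y hx hy => simp [map_add, hx, hy]
  | smul r x hx => simp [map_smul, hx]

theorem isSimp_rep (i : Fin S.s) : IsSimp (S.rep i) := by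
  have : NeZero (S.d i) := ⟨(S.pos i).ne'⟩
  refine ⟨inferInstance, fun W hW => ?_⟩
  by_contra! h
  obtain ⟨v, hv, hv0⟩ := (Submodule.ne_bot_iff W).1 h.1
  obtain ⟨c, hc⟩ : ∃ c, v c ≠ 0 := Function.ne_iff.1 hv0
  apply h.2
  rw [eq_top_iff]
  intro u _
  classical
  obtain ⟨a, ha⟩ := S.surj (Pi.single i ((v c)⁻¹ • Matrix.vecMulVec u (Pi.single c 1)))
  have := hW.algRep_mem a hv
  rw [algRep_rep, ha, Pi.single_eq_same, Matrix.toLin'_apply, Matrix.smul_mulVec,
    Matrix.vecMulVec_mulVec] at this
  convert this using 1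
  ext r
  simp [hc]

/-- Each simple representation is one of the system. -/
theorem exists_equiv {V : Type*} [AddCommGroup V] [Module K V] {ρ : G →* Module.End K V}
    (hs : IsSimp ρ) :
    ∃ (i : Fin S.s) (L : (Fin (S.d i) → K) ≃ₗ[K] V), ∀ g v, L (S.rep i g v) = ρ g (L v) := by
  classical
  -- elements killed by the system act as zero
  have hker : ∀ a, S.π a = 0 → algRep ρ a = 0 := by
    intro a ha
    apply LinearMap.ext
    intro v
    by_contra hv
    let N := LinearMap.ker S.π.toLinearMap
    let W : Submodule K V := N.map ((algRep ρ).toLinearMap.flip v)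
    have hW : Invariant ρ W := by
      rintro g _ ⟨b, hb, rfl⟩
      refine ⟨single g 1 * b, ?_, ?_⟩
      · simp only [N, SetLike.mem_coe, LinearMap.mem_ker, AlgHom.toLinearMap_apply] at hb ⊢
        rw [map_mul, hb, mul_zero]
      · simp [map_mul]
    have hne : W ≠ ⊥ := fun h => hv (by
      have : algRep ρ a v ∈ W := ⟨a, LinearMap.mem_ker.2 ha, rfl⟩
      rw [h, Submodule.mem_bot] at this
      simpa using this)
    obtain ⟨b, hb, hbv⟩ : v ∈ W := ((hs.2 W hW).resolve_left hne).symm ▸ Submodule.mem_top
    have hn : IsNilpotent (algRep ρ b) := (S.nil b (LinearMap.mem_ker.1 hb)).map (algRep ρ)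
    have h0 : v = 0 := by
      obtain ⟨n, hn⟩ := hn
      have hp : ∀ m, ((algRep ρ b) ^ m) v = v := fun m => by
        induction m with
        | zero => simp
        | succ m ih =>
          rw [pow_succ, Module.End.mul_apply, show algRep ρ b v = v from hbv, ih]
      rw [← hp n, hn]; rfl
    exact hv (by rw [h0, map_zero]; rfl)
  have heq : ∀ a b, S.π a = S.π b → algRep ρ a = algRep ρ b := fun a b h => by
    rw [← sub_eq_zero, ← map_sub]
    exact hker _ (by rw [map_sub, h, sub_self])
  choose E hE using fun (x : Σ i, Fin (S.d i) × Fin (S.d i)) =>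
    S.surj (Pi.single x.1 (Matrix.single x.2.1 x.2.2 (1 : K)))
  obtain ⟨i, r₀, v₁, hv₁⟩ : ∃ i r₀ v, algRep ρ (E ⟨i, r₀, r₀⟩) v ≠ 0 := by
    by_contra! h
    have h1 : algRep ρ (∑ i, ∑ r, E ⟨i, r, r⟩) = 1 := by
      rw [← map_one (algRep ρ)]
      refine heq _ _ ?_
      simp only [map_sum, map_one, hE]
      funext j
      rw [Finset.sum_apply, Finset.sum_eq_single j (fun b _ hb => by
        simp [Finset.sum_apply, Pi.single_eq_of_ne (Ne.symm hb)]) (by simp)]
      simp only [Finset.sum_apply, Pi.single_eq_same, Pi.one_apply]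
      ext a b
      simp [Matrix.sum_apply, Matrix.single_apply, Matrix.one_apply, ite_and]
    obtain ⟨v, hv⟩ := @exists_ne V hs.1 0
    apply hv
    have h2 := congrArg (fun f : Module.End K V => f v) h1
    simp only [map_sum, LinearMap.sum_apply, h, Finset.sum_const_zero, Module.End.one_apply] at h2
    exact h2.symm
  let L₀ : (Fin (S.d i) → K) →ₗ[K] V :=
    { toFun := fun u => ∑ r, u r • algRep ρ (E ⟨i, r, r₀⟩) v₁
      map_add' := fun x y => by simp [add_smul, Finset.sum_add_distrib]
      map_smul' := fun c x => by simp [Finset.smul_sum, smul_smul] }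
  have hmul : ∀ a u, algRep ρ a (L₀ u) = L₀ (algRep (S.rep i) a u) := by
    intro a u
    have hcol : ∀ r, algRep ρ a (algRep ρ (E ⟨i, r, r₀⟩) v₁) =
        ∑ q, S.π a i q r • algRep ρ (E ⟨i, q, r₀⟩) v₁ := by
      intro r
      rw [← Module.End.mul_apply, ← map_mul,
        heq _ (∑ q, S.π a i q r • E ⟨i, q, r₀⟩) ?_, map_sum, LinearMap.sum_apply]
      · simp
      · simp only [map_mul, map_sum, map_smul, hE]
        funext j
        rcases eq_or_ne j i with rfl | hj
        · simp only [Pi.mul_apply, Finset.sum_apply, Pi.smul_apply, Pi.single_eq_same]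
          ext x y
          simp [Matrix.sum_apply, Matrix.single_apply, Matrix.mul_apply, ite_and, eq_comm]
        · simp [Finset.sum_apply, Pi.single_eq_of_ne hj]
    simp only [L₀, LinearMap.coe_mk, AddHom.coe_mk, map_sum, map_smul, hcol, Finset.smul_sum,
      smul_smul, algRep_rep, Matrix.toLin'_apply, Matrix.mulVec, dotProduct, Finset.sum_smul]
    rw [Finset.sum_comm]
    exact Finset.sum_congr rfl fun q _ => Finset.sum_congr rfl fun r _ => by rw [mul_comm]
  have hL0 : L₀ (Pi.single r₀ 1) ≠ 0 := by
    simpa [L₀, Pi.single_apply] using hv₁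
  have hinj : Function.Injective L₀ := by
    rw [← LinearMap.ker_eq_bot]
    refine ((S.isSimp_rep i).2 _ fun g u hu => ?_).resolve_right fun h => hL0 ?_
    · rw [LinearMap.mem_ker] at hu ⊢
      have := hmul (single g 1) u
      simpa [hu] using this.symm
    · exact LinearMap.mem_ker.1 (h.symm ▸ Submodule.mem_top)
  have hsurj : Function.Surjective L₀ := by
    rw [← LinearMap.range_eq_top]
    refine (hs.2 _ ?_).resolve_left fun h => hL0 ((Submodule.mem_bot K).1 (h ▸ LinearMap.mem_range_self L₀ _))
    rintro g _ ⟨u, rfl⟩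
    exact ⟨S.rep i g u, by simpa using (hmul (single g 1) u).symm⟩
  refine ⟨i, LinearEquiv.ofBijective L₀ (show Function.Bijective L₀ from ⟨hinj, hsurj⟩), fun g v => ?_⟩
  show L₀ (S.rep i g v) = ρ g (L₀ v)
  simpa using (hmul (single g 1) v).symm

theorem algRep_equiv {V : Type*} [AddCommGroup V] [Module K V] {W : Type*} [AddCommGroup W] [Module K W]
    {ρ : G →* Module.End K V} {σ : G →* Module.End K W} (L : V ≃ₗ[K] W)
    (h : ∀ g v, L (ρ g v) = σ g (L v)) (a : MonoidAlgebra K G) (v : V) :
    L (algRep ρ a v) = algRep σ a (L v) := by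
  induction a using MonoidAlgebra.induction_on with
  | of g => simpa using h g v
  | add x y hx hy => simp [map_add, hx, hy]
  | smul r x hx => simp [map_smul, hx]

theorem rankAt_equiv {V : Type*} [AddCommGroup V] [Module K V] {W : Type*} [AddCommGroup W] [Module K W]
    {ρ : G →* Module.End K V} {σ : G →* Module.End K W} (L : V ≃ₗ[K] W)
    (h : ∀ g v, L (ρ g v) = σ g (L v)) (a : MonoidAlgebra K G) : rankAt ρ a = rankAt σ a := by
  have : (LinearMap.range (algRep ρ a)).map L.toLinearMap = LinearMap.range (algRep σ a) := by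
    ext x
    simp only [Submodule.mem_map, LinearMap.mem_range]
    constructor
    · rintro ⟨_, ⟨v, rfl⟩, rfl⟩
      exact ⟨L v, (algRep_equiv L h a v).symm⟩
    · rintro ⟨w, rfl⟩
      exact ⟨_, ⟨L.symm w, rfl⟩, by simp [algRep_equiv L h a]⟩
  rw [rankAt, rankAt, ← this, LinearEquiv.finrank_map_eq]

/-- A unit of the `i`th factor. -/
theorem exists_factor_unit (i : Fin S.s) :
    ∃ e : MonoidAlgebra K G, S.π e = Pi.single i 1 := S.surj _

/-- The members of the system are pairwise non-isomorphic. -/
theorem rep_injective {i j : Fin S.s} (L : (Fin (S.d i) → K) ≃ₗ[K] (Fin (S.d j) → K))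
    (h : ∀ g v, L (S.rep i g v) = S.rep j g (L v)) : i = j := by
  classical
  by_contra hne
  have : NeZero (S.d i) := ⟨(S.pos i).ne'⟩
  obtain ⟨e, he⟩ := S.exists_factor_unit i
  have h1 := algRep_equiv L h e (Pi.single 0 1)
  rw [algRep_rep, algRep_rep, he, Pi.single_eq_same, Pi.single_eq_of_ne (Ne.symm hne)] at h1
  simp at h1

/-- Composition factors, recorded through the ranks of idempotents. -/
theorem exists_mult : ∀ (n : ℕ) {V : Type w} [AddCommGroup V] [Module K V] [FiniteDimensional K V]
    (ρ : G →* Module.End K V), Module.finrank K V = n →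
    ∃ a : Fin S.s → ℕ, ∀ e : MonoidAlgebra K G, e * e = e →
      rankAt ρ e = ∑ i, a i * rankAt (S.rep i) e := by
  intro n
  induction n using Nat.strong_induction_on with
  | _ n ih =>
    intro V _ _ _ ρ hn
    rcases subsingleton_or_nontrivial V with hV | hV
    · exact ⟨0, fun e _ => by simp [rankAt, Module.finrank_zero_of_subsingleton]⟩
    by_cases hs : IsSimp ρ
    · obtain ⟨i, L, hL⟩ := S.exists_equiv hs
      refine ⟨Pi.single i 1, fun e _ => ?_⟩
      rw [Finset.sum_eq_single i (fun j _ hj => by simp [Pi.single_eq_of_ne hj]) (by simp),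
        Pi.single_eq_same, one_mul, rankAt_equiv L hL]
    · simp only [IsSimp, hV, true_and, not_forall, not_or] at hs
      obtain ⟨W, hW, hb, ht⟩ := hs
      have h1 : Module.finrank K W < n := hn ▸ Submodule.finrank_lt ht
      have h2 : Module.finrank K (V ⧸ W) < n := by
        have := W.finrank_quotient_add_finrank
        have := Submodule.one_le_finrank_iff.2 hb
        omega
      obtain ⟨a, ha⟩ := ih _ h1 (subRep hW) rfl
      obtain ⟨b, hb'⟩ := ih _ h2 (quotRep hW) rfl
      exact ⟨a + b, fun e he => by
        rw [rankAt_add hW he, ha e he, hb' e he, ← Finset.sum_add_distrib]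
        exact Finset.sum_congr rfl fun i _ => by rw [Pi.add_apply, add_mul]⟩

end Sys

end CfsgLib.ModRep
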