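import Cfsg.Agent.Lib.ModRep.Ideals
import Cfsg.Agent.Lib.BPStar.GroupRing
import Cfsg.Agent.Lib.Blocks.ClassCount

/-!
# The simple modules of a block are as many as its rank
-/

set_option autoImplicit false
set_option linter.unusedSectionVars false
set_option linter.style.haveILetI false

namespace CfsgLib.ModRep

open Cfsg MonoidAlgebra CfsgLib.Blocks CfsgLib.BrauerPairs CfsgLib.Characters

universe u

variable {G : Type u} [Group G] [Fintype G] {p : ℕ} [hp : Fact p.Prime] {M : Ideal AlgInt}
  [M.IsMaximal]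

/-- A simple module on a coordinate space. -/
def IsSimpleRep {d : ℕ} (rho : G →* Module.End (ResK M) (Fin d → ResK M)) : Prop :=
  d ≠ 0 ∧ ∀ W : Submodule (ResK M) (Fin d → ResK M),
    (∀ g, ∀ v ∈ W, rho g v ∈ W) → W = ⊥ ∨ W = ⊤

/-- The block idempotent acts as the identity. -/
def InBlock (hM : IsPModular p M) (B : Set (IrrCharacter G)) {V : Type*} [AddCommGroup V]
    [Module (ResK M) V] (rho : G →* Module.End (ResK M) V) : Prop :=
  MonoidAlgebra.lift (ResK M) (Module.End (ResK M) V) G rho (eG hM B) = 1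

/-- Isomorphism of representations on coordinate spaces. -/
def Iso {d d' : ℕ} (rho : G →* Module.End (ResK M) (Fin d → ResK M))
    (rho' : G →* Module.End (ResK M) (Fin d' → ResK M)) : Prop :=
  ∃ L : (Fin d → ResK M) ≃ₗ[ResK M] (Fin d' → ResK M), ∀ g v, L (rho g v) = rho' g (L v)

theorem IsSimpleRep.isSimp {d : ℕ} {rho : G →* Module.End (ResK M) (Fin d → ResK M)}
    (h : IsSimpleRep rho) : IsSimp rho := by
  have : NeZero d := ⟨h.1⟩
  exact ⟨inferInstance, h.2⟩

variable {hM : IsPModular p M}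

theorem eG_eq_red (B : Set (IrrCharacter G)) : eG hM B = red hM (blockIdem B) := eG_eq_redFun hM B

theorem isLoc_blockIdem {B : Set (IrrCharacter G)} (hB : IsPBlock M B) :
    IsLoc hM (blockIdem B) := fun x => by simpa using blockCoeff_mem hM hB x

theorem eG_empty : eG hM (∅ : Set (IrrCharacter G)) = 0 := by
  rw [eG_eq_red, blockIdem_empty, red]
  ext x
  rw [coeff_redFun hM (c := ((0 : MonoidAlgebra ℂ G).coeff ·)) (by simp)]
  simp only [coeff_zero, Finsupp.zero_apply]
  exact map_zero (resK hM)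

theorem isSimp_inBlock_unique {V : Type*} [AddCommGroup V] [Module (ResK M) V]
    {ρ : G →* Module.End (ResK M) V} (hs : IsSimp ρ) {B B' : Set (IrrCharacter G)}
    (hB : IsPBlock M B) (hB' : IsPBlock M B') (h : algRep ρ (eG hM B) = 1)
    (h' : algRep ρ (eG hM B') = 1) : B = B' := by
  by_contra hne
  have hd : B ∩ B' = ∅ := Set.eq_empty_iff_forall_notMem.2 fun χ hχ => hne
    ((IsPBlock.eq_blockOf hM hB hχ.1).trans (IsPBlock.eq_blockOf hM hB' hχ.2).symm)
  have h1 := congrArg (algRep ρ) (eG_mul hM hB hB')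
  rw [map_mul, h, h', hd, eG_empty, map_zero, one_mul] at h1
  obtain ⟨v, hv⟩ := @exists_ne V hs.1 0
  exact hv (LinearMap.congr_fun h1 v)

variable (S : Sys (ResK M) G)

theorem exists_block (i : Fin S.s) :
    ∃ B, IsPBlock M B ∧ algRep (S.rep i) (eG hM B) = 1 := by
  obtain ⟨s, hs, hsum⟩ := exists_eG_decomp hM G
  by_contra! h
  have h0 : ∀ e ∈ s, algRep (S.rep i) e = 0 := by
    intro e he
    obtain ⟨B, hB, rfl⟩ := hs e he
    refine ((S.isSimp_rep i).idem_comm ?_ fun g => ?_).resolve_right (h B hB)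
    · rw [eG_eq_red]; exact red_blockIdem_idem (isLoc_blockIdem hB)
    · rw [eG_eq_red]; exact (red_comm_blockIdem (isLoc_blockIdem hB) _).symm
  have h1 := congrArg (algRep (S.rep i)) hsum
  rw [map_sum, Finset.sum_eq_zero h0, map_one] at h1
  obtain ⟨v, hv⟩ := @exists_ne _ (S.isSimp_rep i).1 0
  exact hv (LinearMap.congr_fun h1.symm v)

/-- The indices of the simple modules of the system in a block. -/
noncomputable def blockIdx (hM : IsPModular p M) (B : Set (IrrCharacter G)) : Set (Fin S.s) :=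
  {i | algRep (S.rep i) (eG hM B) = 1}

theorem modChar_mem_regularSpan {n : ℕ} (ρ : G →* Module.End (ResK M) (Fin n → ResK M)) :
    modChar hM ρ ∈ Submodule.span ℂ
      (Set.range fun χ : IrrCharacter G => pRegularPart p (χ : G → ℂ)) := by
  have h := classFunction_eq_sum (isClassFunction_modChar (hM := hM) ρ)
  have h' : modChar hM ρ = ∑ χ : IrrCharacter G,
      classInner (modChar hM ρ) (χ : G → ℂ) • pRegularPart p (χ : G → ℂ) := by
    funext g
    simp only [Finset.sum_apply, Pi.smul_apply, smul_eq_mul, pRegularPart]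
    by_cases hg : p ∣ orderOf g
    · simp [IsPRegular, hg, modChar_of_singular ρ hg]
    · have := congrFun h g
      simpa [IsPRegular, hg] using this
  rw [h']
  exact Submodule.sum_mem _ fun χ _ => Submodule.smul_mem _ _ (Submodule.subset_span ⟨χ, rfl⟩)

theorem span_blockIdx {B : Set (IrrCharacter G)} (hB : IsPBlock M B) :
    Submodule.span ℂ ((fun χ : IrrCharacter G => pRegularPart p (χ : G → ℂ)) '' B) =
      Submodule.span ℂ ((fun i => modChar hM (S.rep i)) '' blockIdx S hM B) := by
  set φ := fun i => modChar hM (S.rep i)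
  have hle : ∀ {B' : Set (IrrCharacter G)}, IsPBlock M B' → ∀ ψ ∈ B',
      pRegularPart p (ψ : G → ℂ) ∈ Submodule.span ℂ (φ '' blockIdx S hM B') := by
    intro B' hB' ψ hψ
    have := pRegularPart_mem_span (hM := hM) (isLoc_blockIdem hB') S hψ
    simpa only [φ, blockIdx, eG_eq_red] using this
  refine le_antisymm (Submodule.span_le.2 ?_) (Submodule.span_le.2 ?_)
  · rintro _ ⟨ψ, hψ, rfl⟩
    exact hle hB ψ hψ
  rintro _ ⟨i, hi, rfl⟩
  set U := Submodule.span ℂ ((fun χ : IrrCharacter G => pRegularPart p (χ : G → ℂ)) '' B)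
  set U' := Submodule.span ℂ ((fun χ : IrrCharacter G => pRegularPart p (χ : G → ℂ)) '' Bᶜ)
  have h : φ i ∈ U ⊔ U' := by
    rw [← Submodule.span_union, ← Set.image_union, Set.union_compl_self, Set.image_univ]
    exact modChar_mem_regularSpan _
  obtain ⟨v, hv, w, hw, hvw⟩ := Submodule.mem_sup.1 h
  have hv' : v ∈ Submodule.span ℂ (φ '' blockIdx S hM B) :=
    Submodule.span_le.2 (by rintro _ ⟨ψ, hψ, rfl⟩; exact hle hB ψ hψ) hv
  have hw' : w ∈ Submodule.span ℂ (φ '' (blockIdx S hM B)ᶜ) := by
    refine Submodule.span_le.2 ?_ hw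
    rintro _ ⟨ψ, hψ, rfl⟩
    have hB' : IsPBlock M (blockOf M (ψ : G → ℂ)) := isPBlock_blockOf ψ
    have h1 := hle hB' ψ (mem_blockOf_self hM ψ)
    have h2 : blockIdx S hM (blockOf M (ψ : G → ℂ)) ⊆ (blockIdx S hM B)ᶜ := by
      intro j hj hjB
      apply hψ
      rw [isSimp_inBlock_unique (hM := hM) (S.isSimp_rep j) hB hB' hjB hj]
      exact mem_blockOf_self hM ψ
    exact Submodule.span_mono (Set.image_mono h2) h1
  have hi' : φ i ∈ Submodule.span ℂ (φ '' blockIdx S hM B) := Submodule.subset_span ⟨i, hi, rfl⟩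
  have hw0 : w = 0 := by
    have hdisj := (modChar_linearIndependent (hM := hM) S).disjoint_span_image
      (disjoint_compl_right (a := blockIdx S hM B))
    refine Submodule.disjoint_def.1 hdisj w ?_ hw'
    rw [show w = φ i - v by rw [← hvw]; abel]
    exact Submodule.sub_mem _ hi' hv'
  have : φ i ∈ U := by rw [← hvw, hw0, add_zero]; exact hv
  exact this

theorem ncard_blockIdx {B : Set (IrrCharacter G)} (hB : IsPBlock M B) :
    Nat.card (blockIdx S hM B) = blockRank p B := by
  classical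
  rw [blockRank, span_blockIdx (hM := hM) S hB, Set.image_eq_range, Nat.card_eq_fintype_card]
  exact (finrank_span_eq_card ((modChar_linearIndependent (hM := hM) S).comp _
    Subtype.val_injective)).symm

/-- A block has at most `blockRank` simple modules. -/
theorem card_le_blockRank (hM : IsPModular p M) {B : Set (IrrCharacter G)} (hB : IsPBlock M B)
    {n : ℕ} (d : Fin n → ℕ) (rho : ∀ i, G →* Module.End (ResK M) (Fin (d i) → ResK M))
    (hs : ∀ i, IsSimpleRep (rho i)) (hb : ∀ i, InBlock hM B (rho i))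
    (hne : ∀ i j, Iso (rho i) (rho j) → i = j) : n ≤ blockRank p B := by
  classical
  have := BPStar.isAlgClosed_res hM
  obtain ⟨S⟩ := exists_sys (K := ResK M) (G := G)
  choose f L hL using fun i => S.exists_equiv (hs i).isSimp
  have hmem : ∀ i, f i ∈ blockIdx S hM B := by
    intro i
    apply LinearMap.ext
    intro v
    apply (L i).injective
    rw [Sys.algRep_equiv (L i) (hL i)]
    exact LinearMap.congr_fun (hb i) (L i v)
  rw [← ncard_blockIdx (hM := hM) S hB, ← Nat.card_fin n]
  refine Nat.card_le_card_of_injective (fun i => (⟨f i, hmem i⟩ : blockIdx S hM B)) fun i j hij => ?_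
  have hij' : f i = f j := congrArg Subtype.val hij
  apply hne
  obtain ⟨e, he⟩ : ∃ e : (Fin (S.d (f i)) → ResK M) ≃ₗ[ResK M] (Fin (S.d (f j)) → ResK M),
      ∀ g v, e (S.rep (f i) g v) = S.rep (f j) g (e v) :=
    (show ∀ a b : Fin S.s, a = b → ∃ e : (Fin (S.d a) → ResK M) ≃ₗ[ResK M] (Fin (S.d b) → ResK M),
      ∀ g v, e (S.rep a g v) = S.rep b g (e v) from
      fun a b h => by subst h; exact ⟨LinearEquiv.refl _ _, fun g v => rfl⟩) _ _ hij'
  refine ⟨(L i).symm.trans (e.trans (L j)), fun g v => ?_⟩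
  have h1 : (L i).symm (rho i g v) = S.rep (f i) g ((L i).symm v) := by
    apply (L i).injective
    rw [LinearEquiv.apply_symm_apply, hL i, LinearEquiv.apply_symm_apply]
  simp only [LinearEquiv.trans_apply, h1, he, hL j]

/-- A block has `blockRank` simple modules. -/
theorem exists_simples (hM : IsPModular p M) {B : Set (IrrCharacter G)} (hB : IsPBlock M B) :
    ∃ (n : ℕ) (d : Fin n → ℕ) (rho : ∀ i, G →* Module.End (ResK M) (Fin (d i) → ResK M)),
      (∀ i, IsSimpleRep (rho i)) ∧ (∀ i, InBlock hM B (rho i)) ∧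
        (∀ i j, Iso (rho i) (rho j) → i = j) ∧ blockRank p B ≤ n := by
  classical
  have := BPStar.isAlgClosed_res hM
  obtain ⟨S⟩ := exists_sys (K := ResK M) (G := G)
  let e := Finite.equivFin (blockIdx S hM B)
  refine ⟨_, fun i => S.d (e.symm i).1, fun i => S.rep (e.symm i).1,
    fun i => ⟨(S.pos _).ne', (S.isSimp_rep _).2⟩, fun i => (e.symm i).2, ?_,
    (ncard_blockIdx (hM := hM) S hB).symm.le⟩
  rintro i j ⟨L, hL⟩
  exact e.symm.injective (Subtype.ext (S.rep_injective L hL))

/-- The dimension of the block algebra. -/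
theorem finrank_block (hM : IsPModular p M) {B : Set (IrrCharacter G)} (hB : IsPBlock M B) :
    Module.finrank (ResK M) (LinearMap.range (LinearMap.mulRight (ResK M) (eG hM B))) =
      ∑ᶠ χ ∈ B, charDegree (χ : G → ℂ) ^ 2 := by
  classical
  have h1 : IsLoc hM (1 : MonoidAlgebra ℂ G) := by simpa [one_def] using isLoc_single (hM := hM) (1 : G)
  have h := rank_multMat_red h1 (isLoc_blockIdem hB) (one_mul 1) (isIdempotentElem_blockIdem B)
  rw [red_one, LinearMap.mulLeft_one, LinearMap.id_comp, ← eG_eq_red] at h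
  rw [finsum_mem_eq_sum_of_inter_support_eq (t := Finset.univ.filter (· ∈ B)) _ (by simp)]
  apply Nat.cast_injective (R := ℂ)
  rw [h, Finset.sum_filter]
  push_cast
  refine Finset.sum_congr rfl fun χ _ => ?_
  rw [omega_one, omega_blockIdem, one_mul]
  split_ifs
  · rw [(CfsgLib.ClassCount.degree_eq χ).1, mul_one]
  · rw [mul_zero]

end CfsgLib.ModRep
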