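import Cfsg.Agent.Lib.ModRep.Main
import Cfsg.Agent.Lib.BPStar.Lift
import Cfsg.Agent.Lib.Blocks.WeakOrth
import Mathlib.RingTheory.Idempotents

/-!
# Decomposition numbers and projective indecomposable characters
-/

set_option autoImplicit false
set_option linter.unusedSectionVars false
set_option linter.style.haveILetI false

namespace CfsgLib.ModRep

open Cfsg MonoidAlgebra CfsgLib.Blocks CfsgLib.BrauerPairs CfsgLib.Characters
open scoped ComplexConjugate

universe u

variable {G : Type u} [Group G] [Fintype G] {p : ℕ} [hp : Fact p.Prime] {M : Ideal AlgInt}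
  [M.IsMaximal] (hM : IsPModular p M) (S : Sys (ResK M) G)

theorem exists_primIdem (i : Fin S.s) :
    ∃ E : MonoidAlgebra (lRing hM) G, IsIdempotentElem E ∧ S.π (BPStar.red hM E) =
      Pi.single i (Matrix.single ⟨0, S.pos i⟩ ⟨0, S.pos i⟩ 1) := by
  classical
  set m : ∀ j, Matrix (Fin (S.d j)) (Fin (S.d j)) (ResK M) :=
    Pi.single i (Matrix.single ⟨0, S.pos i⟩ ⟨0, S.pos i⟩ 1) with hm
  have hidem : IsIdempotentElem m := by
    funext j
    rcases eq_or_ne j i with rfl | hj
    · rw [hm, Pi.mul_apply, Pi.single_eq_same]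
      ext a b
      simp [Matrix.mul_apply, Matrix.single_apply, ite_and]
      split_ifs <;> rfl
    · simp [hm, Pi.single_eq_of_ne hj]
  obtain ⟨e, he, he'⟩ := exists_isIdempotentElem_eq_of_ker_isNilpotent S.π.toRingHom
    (fun x hx => S.nil x hx) m (S.surj m) hidem
  obtain ⟨E, hE, hEr, -⟩ := BPStar.exists_idem_lift hM he
  exact ⟨E, hE, by rw [hEr]; exact he'⟩

/-- A lifted primitive idempotent of the `i`th simple module. -/
noncomputable def primIdem (i : Fin S.s) : MonoidAlgebra ℂ G :=
  BPStar.inc hM (exists_primIdem hM S i).choose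

theorem primIdem_idem (i : Fin S.s) : primIdem hM S i * primIdem hM S i = primIdem hM S i := by
  rw [primIdem, ← map_mul, (exists_primIdem hM S i).choose_spec.1.eq]

theorem isLoc_primIdem (i : Fin S.s) : IsLoc hM (primIdem hM S i) := fun x => by
  rw [primIdem, BPStar.coeff_inc]
  exact SetLike.coe_mem _

theorem red_primIdem (i : Fin S.s) :
    S.π (red hM (primIdem hM S i)) = Pi.single i (Matrix.single ⟨0, S.pos i⟩ ⟨0, S.pos i⟩ 1) := by
  rw [← (exists_primIdem hM S i).choose_spec.2]
  congr 1
  rw [red, primIdem, BPStar.inc, redFun_mapRingHom]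
  rfl

theorem rankAt_primIdem (i j : Fin S.s) :
    rankAt (S.rep j) (red hM (primIdem hM S i)) = if j = i then 1 else 0 := by
  classical
  rw [rankAt, Sys.algRep_rep, red_primIdem]
  split_ifs with h
  · subst h
    rw [Pi.single_eq_same]
    set o : Fin (S.d j) := ⟨0, S.pos j⟩
    have hr : LinearMap.range (Matrix.toLin' (Matrix.single o o (1 : ResK M))) =
        Submodule.span (ResK M) {Pi.single o (1 : ResK M)} := by
      ext v
      rw [Submodule.mem_span_singleton, LinearMap.mem_range]
      constructor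
      · rintro ⟨w, rfl⟩
        refine ⟨w o, ?_⟩
        funext r
        simp [Matrix.toLin'_apply, Matrix.mulVec, dotProduct, Matrix.single_apply, Pi.single_apply,
          ite_and, eq_comm]
      · rintro ⟨c, rfl⟩
        refine ⟨c • Pi.single o 1, ?_⟩
        funext r
        simp [Matrix.toLin'_apply, Matrix.mulVec, dotProduct, Matrix.single_apply, Pi.single_apply,
          ite_and, eq_comm]
    rw [hr, finrank_span_singleton]
    intro h0
    have h1 := congrFun h0 o
    rw [Pi.single_eq_same, Pi.zero_apply] at h1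
    exact one_ne_zero h1
  · rw [Pi.single_eq_of_ne h, map_zero, LinearMap.range_zero, finrank_bot]

theorem exists_nat_of_idem (χ : IrrCharacter G) {e : MonoidAlgebra ℂ G} (he : e * e = e) :
    ∃ n : ℕ, (χ : G → ℂ) 1 * omega (χ : G → ℂ) e = n := by
  obtain ⟨_, n, ρ, hρ, rfl⟩ := χ
  refine ⟨Module.finrank ℂ (LinearMap.range (ρ.asAlgebraHom e)), ?_⟩
  have hp' : LinearMap.IsProj (LinearMap.range (ρ.asAlgebraHom e)) (ρ.asAlgebraHom e) := by
    refine ⟨fun v => LinearMap.mem_range_self _ v, ?_⟩
    rintro _ ⟨w, rfl⟩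
    rw [← Module.End.mul_apply, ← map_mul, he]
  rw [← hp'.trace, omega_apply, asAlgebraHom_eq_sum, map_sum]
  change ρ.character 1 * ((∑ x : G, e.coeff x * ρ.character x) / ρ.character 1) = _
  have h0 : ρ.character 1 ≠ 0 := irr_one_ne_zero (⟨ρ.character, n, ρ, hρ, rfl⟩ : IrrCharacter G)
  rw [mul_div_cancel₀ _ h0]
  exact Finset.sum_congr rfl fun x _ => by rw [map_smul, smul_eq_mul]; rfl

/-- The decomposition number of `χ` at the `i`th simple module. -/
noncomputable def decomp (χ : IrrCharacter G) (i : Fin S.s) : ℕ :=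
  (exists_nat_of_idem χ (primIdem_idem hM S i)).choose

theorem decomp_eq (χ : IrrCharacter G) (i : Fin S.s) :
    (decomp hM S χ i : ℂ) = (χ : G → ℂ) 1 * omega (χ : G → ℂ) (primIdem hM S i) :=
  (exists_nat_of_idem χ (primIdem_idem hM S i)).choose_spec.symm

/-- The character of the projective cover of the `i`th simple module. -/
noncomputable def pimChar (i : Fin S.s) : G → ℂ :=
  ∑ χ : IrrCharacter G, (decomp hM S χ i : ℂ) • (χ : G → ℂ)

theorem pimChar_apply (i : Fin S.s) (y : G) :
    pimChar hM S i y = ∑ χ : IrrCharacter G, (decomp hM S χ i : ℂ) * (χ : G → ℂ) y := by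
  simp [pimChar]

/-- Projective characters vanish at singular elements. -/
theorem pimChar_singular (i : Fin S.s) {y : G} (hy : p ∣ orderOf y) : pimChar hM S i y = 0 := by
  classical
  have h1 : ∀ χ : IrrCharacter G, (decomp hM S χ i : ℂ) * (χ : G → ℂ) y =
      ∑ x : G, (primIdem hM S i).coeff x * ((χ : G → ℂ) x * conj ((χ : G → ℂ) y⁻¹)) := by
    intro χ
    rw [decomp_eq, omega_apply, mul_div_cancel₀ _ (irr_one_ne_zero χ), Finset.sum_mul]
    exact Finset.sum_congr rfl fun x _ => by rw [← irr_apply_inv, inv_inv]; ring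
  rw [pimChar_apply, Finset.sum_congr rfl fun χ _ => h1 χ, Finset.sum_comm]
  simp only [← Finset.mul_sum, column_orth]
  have h0 := classTrace_eq_zero hM (primIdem_idem hM S i) (isLoc_primIdem hM S i)
    (y := y⁻¹) (by rwa [orderOf_inv])
  rw [classTrace] at h0
  calc _ = (Nat.card (Subgroup.centralizer ({y⁻¹} : Set G)) : ℂ) *
        ∑ x : G, if IsConj y⁻¹ x then (primIdem hM S i).coeff x else 0 := by
        rw [Finset.mul_sum]
        refine Finset.sum_congr rfl fun x _ => ?_
        by_cases hx : IsConj x y⁻¹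
        · rw [if_pos hx, if_pos hx.symm, mul_comm]
          congr 2
          obtain ⟨c, hc⟩ := isConj_iff.1 hx
          have e1 := card_isConj_mul_card_centralizer x
          have e2 := card_isConj_mul_card_centralizer y⁻¹
          have e3 : Nat.card {z : G // IsConj x z} = Nat.card {z : G // IsConj y⁻¹ z} :=
            Nat.card_congr (Equiv.subtypeEquivRight fun z => ⟨fun h => hx.symm.trans h, fun h => hx.trans h⟩)
          rw [e3] at e1
          have e4 : 0 < Nat.card {z : G // IsConj y⁻¹ z} :=
            Nat.card_pos_iff.2 ⟨⟨⟨y⁻¹, IsConj.refl _⟩⟩, inferInstance⟩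
          exact Nat.eq_of_mul_eq_mul_left e4 (e1.trans e2.symm)
        · rw [if_neg hx, if_neg fun h => hx h.symm, mul_zero, mul_zero]
    _ = 0 := mul_eq_zero_of_right _ (by convert h0)

/-- The multiplicities of the simple modules in the ideal of an idempotent. -/
theorem modChar_idealRep {b : MonoidAlgebra ℂ G} (hb : IsLoc hM b) (hb2 : b * b = b) :
    modChar hM (idealRep (red hM b)) = ∑ i : Fin S.s,
      (∑ χ : IrrCharacter G, (decomp hM S χ i : ℂ) * ((χ : G → ℂ) 1 * omega (χ : G → ℂ) b)) •
        modChar hM (S.rep i) := by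
  classical
  obtain ⟨a, ha, heq⟩ := exists_modChar_eq (hM := hM) S (idealRep (red hM b))
  rw [heq]
  refine Finset.sum_congr rfl fun i _ => ?_
  congr 1
  have h1 := ha (red hM (primIdem hM S i)) (by
    rw [← red_mul (isLoc_primIdem hM S i) (isLoc_primIdem hM S i), primIdem_idem])
  simp only [rankAt_primIdem, mul_ite, mul_one, mul_zero, Finset.sum_ite_eq', Finset.mem_univ,
    if_true] at h1
  rw [← h1, rankAt_idealRep, rank_multMat_red (isLoc_primIdem hM S i) hb (primIdem_idem hM S i) hb2]
  exact Finset.sum_congr rfl fun χ _ => by rw [decomp_eq]; ring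

/-- The decomposition of the restrictions to the regular elements. -/
theorem pRegularPart_eq_sum (χ : IrrCharacter G) :
    pRegularPart p (χ : G → ℂ) = ∑ i : Fin S.s, (decomp hM S χ i : ℂ) • modChar hM (S.rep i) := by
  classical
  set φ := fun i => modChar hM (S.rep i)
  set v : IrrCharacter G → G → ℂ := fun χ =>
    pRegularPart p (χ : G → ℂ) - ∑ i : Fin S.s, (decomp hM S χ i : ℂ) • φ i
  have hpR : ∀ (f : G → ℂ) (g : G), pRegularPart p f g = if p ∣ orderOf g then 0 else f g := by
    intro f g
    by_cases h : p ∣ orderOf g <;> simp [pRegularPart, IsPRegular, h]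
  have hone : IsLoc hM (blockIdem (Set.univ : Set (IrrCharacter G))) := by
    rw [blockIdem_univ, one_def]; exact isLoc_single _
  -- the weighted sums vanish
  have hF : ∀ h : G, ¬ p ∣ orderOf h → ∑ χ : IrrCharacter G, (χ : G → ℂ) h • v χ = 0 := by
    intro h hh
    have hA : (∑ χ : IrrCharacter G, (χ : G → ℂ) h • pRegularPart p (χ : G → ℂ)) =
        ∑ l ∈ Finset.range (orderOf h),
          zeta h ^ l • modChar hM (idealRep (red hM (cutC Set.univ h l))) := by
      funext g
      simp only [Finset.sum_apply, Pi.smul_apply, smul_eq_mul, hpR]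
      by_cases hg : p ∣ orderOf g
      · simp [hg, modChar_of_singular _ hg]
      · simp only [if_neg hg]
        rw [sum_modChar_cut hone hg hh]
        simp [mul_comm]
    have hω : ∀ χ : IrrCharacter G, ∑ l ∈ Finset.range (orderOf h),
        zeta h ^ l * ((χ : G → ℂ) 1 * omega (χ : G → ℂ) (cutC Set.univ h l)) = (χ : G → ℂ) h := by
      intro χ
      have h0 := irr_one_ne_zero χ
      have : ∑ l ∈ Finset.range (orderOf h), zeta h ^ l • cutC Set.univ h l = single h (1 : ℂ) := by
        simp only [cutC, blockIdem_univ, mul_one]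
        exact sum_zeta_eigC h
      have h1 := congrArg (omega (χ : G → ℂ)) this
      rw [map_sum, omega_single, one_mul] at h1
      simp only [map_smul, smul_eq_mul] at h1
      rw [Finset.sum_congr rfl fun l _ => mul_left_comm _ _ _, ← Finset.mul_sum, h1,
        mul_div_cancel₀ _ h0]
    simp only [v, smul_sub, Finset.sum_sub_distrib, hA, sub_eq_zero,
      modChar_idealRep hM S (isLoc_cutC hone hh _) (cutC_idem _ _ _), Finset.smul_sum, smul_smul]
    rw [Finset.sum_comm, Finset.sum_comm (γ := IrrCharacter G)]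
    refine Finset.sum_congr rfl fun i _ => ?_
    rw [← Finset.sum_smul, ← Finset.sum_smul]
    congr 1
    simp only [Finset.mul_sum]
    rw [Finset.sum_comm]
    refine Finset.sum_congr rfl fun χ _ => ?_
    rw [← hω χ, Finset.sum_mul]
    exact Finset.sum_congr rfl fun l _ => by ring
  suffices hv : v χ = 0 by
    exact sub_eq_zero.1 hv
  by_contra hne
  obtain ⟨g₀, hg₀⟩ := Function.ne_iff.1 hne
  set c : IrrCharacter G → ℂ := fun ψ => v ψ g₀ with hc
  have h1 : ∀ h : G, ¬ p ∣ orderOf h → ∑ ψ : IrrCharacter G, (ψ : G → ℂ) h * c ψ = 0 := by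
    intro h hh
    simpa using congrFun (hF h hh) g₀
  set ψc : G → ℂ := ∑ ψ : IrrCharacter G, conj (c ψ) • (ψ : G → ℂ)
  have h2 : ∀ g, ¬ p ∣ orderOf g → ψc g = 0 := by
    intro g hg
    have := congrArg conj (h1 g⁻¹ (by rwa [orderOf_inv]))
    simp only [map_sum, map_mul, map_zero, irr_apply_inv, Complex.conj_conj] at this
    simp only [ψc, Finset.sum_apply, Pi.smul_apply, smul_eq_mul]
    rw [← this]
    exact Finset.sum_congr rfl fun ψ _ => mul_comm _ _
  have h3 : ∀ i, ∑ ψ : IrrCharacter G, conj (c ψ) * (decomp hM S ψ i : ℂ) = 0 := by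
    intro i
    have h4 : classInner ψc (pimChar hM S i) = 0 := by
      rw [classInner, Finset.sum_eq_zero fun g _ => ?_, mul_zero]
      by_cases hg : p ∣ orderOf g
      · rw [pimChar_singular hM S i hg, map_zero, mul_zero]
      · rw [h2 g hg, zero_mul]
    rw [← h4, pimChar, classInner_sum_left]
    refine Finset.sum_congr rfl fun ψ _ => ?_
    rw [classInner_smul_left]
    congr 1
    rw [classInner_sum_right, Finset.sum_eq_single ψ]
    · rw [classInner_smul_right, classInner_irr, if_pos rfl, mul_one, Complex.conj_natCast]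
    · intro b _ hb
      rw [classInner_smul_right, classInner_irr, if_neg (Ne.symm hb), mul_zero]
    · simp
  have h5 : ∑ ψ : IrrCharacter G, conj (c ψ) * c ψ = 0 := by
    have e1 : ∀ ψ : IrrCharacter G, c ψ = pRegularPart p (ψ : G → ℂ) g₀ -
        ∑ i : Fin S.s, (decomp hM S ψ i : ℂ) * φ i g₀ := fun ψ => by
      simp [hc, v]
    rw [Finset.sum_congr rfl fun ψ _ => congrArg (conj (c ψ) * ·) (e1 ψ)]
    simp only [mul_sub, Finset.sum_sub_distrib, Finset.mul_sum]
    rw [sub_eq_zero]
    conv_rhs => rw [Finset.sum_comm]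
    rw [Finset.sum_eq_zero (s := (Finset.univ : Finset (Fin S.s))) fun i _ => by
      simp only [← mul_assoc]
      rw [← Finset.sum_mul, h3 i, zero_mul]]
    by_cases hg : p ∣ orderOf g₀
    · simp [hpR, hg]
    · simp only [hpR, if_neg hg]
      simpa [ψc] using h2 g₀ hg
  simp only [← Complex.normSq_eq_conj_mul_self, ← Complex.ofReal_sum, Complex.ofReal_eq_zero] at h5
  exact hg₀ (Complex.normSq_eq_zero.1 ((Finset.sum_eq_zero_iff_of_nonneg fun ψ _ =>
    Complex.normSq_nonneg _).1 h5 χ (Finset.mem_univ χ)))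

/-- Decomposition numbers vanish outside the block. -/
theorem decomp_eq_zero {B : Set (IrrCharacter G)} (hB : IsPBlock M B) {χ : IrrCharacter G}
    {i : Fin S.s} (h : ¬ (χ ∈ B ↔ i ∈ blockIdx S hM B)) : decomp hM S χ i = 0 := by
  classical
  set φ := fun i => modChar hM (S.rep i)
  have hB' : IsPBlock M (blockOf M (χ : G → ℂ)) := isPBlock_blockOf χ
  have hi : i ∉ blockIdx S hM (blockOf M (χ : G → ℂ)) := by
    intro hi
    refine h ⟨fun hχ => ?_, fun hiB => ?_⟩
    · rwa [IsPBlock.eq_blockOf hM hB hχ]
    · rw [isSimp_inBlock_unique (hM := hM) (S.isSimp_rep i) hB hB' hiB hi]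
      exact mem_blockOf_self hM χ
  have h1 : (∑ j : Fin S.s, (decomp hM S χ j : ℂ) • φ j) ∈
      Submodule.span ℂ (φ '' blockIdx S hM (blockOf M (χ : G → ℂ))) := by
    rw [← pRegularPart_eq_sum, ← span_blockIdx (hM := hM) S hB']
    exact Submodule.subset_span ⟨χ, mem_blockOf_self hM χ, rfl⟩
  have hli := modChar_linearIndependent (hM := hM) S
  rw [Finsupp.mem_span_image_iff_linearCombination] at h1
  obtain ⟨l, hl, hl'⟩ := h1
  have h2 : l i = (decomp hM S χ i : ℂ) := by
    have := (Fintype.linearIndependent_iffₛ.1 hli) (fun j => l j) (fun j => (decomp hM S χ j : ℂ)) (by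
      rw [← hl', Finsupp.linearCombination_apply, Finsupp.sum_fintype]
      simp) i
    exact this
  have h3 : l i = 0 := Finsupp.notMem_support_iff.1 fun hh => hi ((Finsupp.mem_supported _ _).1 hl hh)
  rw [h3] at h2
  exact_mod_cast h2.symm

/-- The degree of a projective character is divisible by the order of a Sylow subgroup. -/
theorem exists_pimChar_one (i : Fin S.s) :
    ∃ n : ℕ, 0 < n ∧ p ^ (Nat.card G).factorization p ∣ n ∧ pimChar hM S i 1 = n ∧
      n = ∑ χ : IrrCharacter G, decomp hM S χ i * charDegree (χ : G → ℂ) := by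
  classical
  refine ⟨∑ χ : IrrCharacter G, decomp hM S χ i * charDegree (χ : G → ℂ), ?_, ?_, ?_, rfl⟩
  · rw [pos_iff_ne_zero]
    intro h0
    rw [Finset.sum_eq_zero_iff] at h0
    have hd : ∀ χ : IrrCharacter G, decomp hM S χ i = 0 := fun χ =>
      (mul_eq_zero.1 (h0 χ (Finset.mem_univ χ))).resolve_right
        (CfsgLib.ClassCount.degree_eq χ).2.2.ne'
    have hone : IsLoc hM (1 : MonoidAlgebra ℂ G) := by simpa [one_def] using isLoc_single (hM := hM) (1 : G)
    obtain ⟨a, ha, -⟩ := exists_modChar_eq (hM := hM) S (idealRep (red hM (1 : MonoidAlgebra ℂ G)))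
    have h1 := ha (red hM (primIdem hM S i)) (by
      rw [← red_mul (isLoc_primIdem hM S i) (isLoc_primIdem hM S i), primIdem_idem])
    simp only [rankAt_primIdem, mul_ite, mul_one, mul_zero, Finset.sum_ite_eq', Finset.mem_univ,
      if_true] at h1
    have h2 := rank_multMat_red (isLoc_primIdem hM S i) hone (primIdem_idem hM S i) (one_mul 1)
    rw [Finset.sum_eq_zero fun χ _ => ?_, Nat.cast_eq_zero] at h2
    · have he : red hM (primIdem hM S i) = 0 := by
        have hz := LinearMap.range_eq_bot.1 (Submodule.finrank_eq_zero.1 h2)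
        have := LinearMap.congr_fun hz (1 : MonoidAlgebra (ResK M) G)
        simpa [red_one] using this
      have := congrFun (red_primIdem hM S i) i
      rw [he, map_zero, Pi.single_eq_same] at this
      simpa using congrFun (congrFun this ⟨0, S.pos i⟩) ⟨0, S.pos i⟩
    · have := decomp_eq hM S χ i
      rw [hd χ, Nat.cast_zero] at this
      rw [pow_two, mul_assoc, ← mul_assoc _ (omega _ _), ← this, zero_mul, mul_zero]
  · let P : Sylow p G := default
    choose m hm using fun χ : IrrCharacter G => CfsgLib.ClassCount.exists_mult χ (P : Subgroup G)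
    rw [← P.card_eq_multiplicity]
    refine ⟨∑ χ : IrrCharacter G, decomp hM S χ i * m χ, ?_⟩
    apply Nat.cast_injective (R := ℂ)
    push_cast
    rw [Finset.mul_sum]
    calc ∑ χ : IrrCharacter G, (decomp hM S χ i : ℂ) * (charDegree (χ : G → ℂ) : ℂ)
        = ∑ t : (P : Subgroup G), pimChar hM S i ((t : G)⁻¹) := by
          rw [Finset.sum_eq_single_of_mem (1 : (P : Subgroup G)) (Finset.mem_univ _)]
          · rw [pimChar_apply]
            simp [(CfsgLib.ClassCount.degree_eq _).1]
          · intro t _ ht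
            refine pimChar_singular hM S i ?_
            obtain ⟨j, hj⟩ := IsPGroup.iff_orderOf.1 P.isPGroup' t
            rw [orderOf_inv, Subgroup.orderOf_coe, hj]
            refine dvd_pow_self p ?_
            rintro rfl
            exact ht (orderOf_eq_one_iff.1 (by rw [hj, pow_zero]))
      _ = ∑ χ : IrrCharacter G, (decomp hM S χ i : ℂ) * ∑ t : (P : Subgroup G), (χ : G → ℂ) ((t : G)⁻¹) := by
          simp only [pimChar_apply, Finset.mul_sum]
          exact Finset.sum_comm
      _ = _ := Finset.sum_congr rfl fun χ _ => by rw [hm χ]; ring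
  · rw [pimChar_apply]
    push_cast
    exact Finset.sum_congr rfl fun χ _ => by rw [(CfsgLib.ClassCount.degree_eq χ).1]

open scoped Classical in
/-- The dimension of the block algebra through the projective characters. -/
theorem sum_sq_eq {B : Set (IrrCharacter G)} (hB : IsPBlock M B) :
    ∑ χ ∈ Finset.univ.filter (· ∈ B), charDegree (χ : G → ℂ) ^ 2 =
      ∑ i ∈ Finset.univ.filter (· ∈ blockIdx S hM B),
        S.d i * ∑ χ : IrrCharacter G, decomp hM S χ i * charDegree (χ : G → ℂ) := by
  have hdeg : ∀ χ : IrrCharacter G, charDegree (χ : G → ℂ) = ∑ i : Fin S.s, decomp hM S χ i * S.d i := by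
    intro χ
    apply Nat.cast_injective (R := ℂ)
    push_cast
    have h := congrFun (pRegularPart_eq_sum hM S χ) 1
    simp only [Finset.sum_apply, Pi.smul_apply, smul_eq_mul, modChar_one, Module.finrank_fin_fun,
      pRegularPart, if_pos (show IsPRegular p (1 : G) by simpa [IsPRegular] using hp.out.ne_one)] at h
    rw [← h, (CfsgLib.ClassCount.degree_eq χ).1]
  calc ∑ χ ∈ Finset.univ.filter (· ∈ B), charDegree (χ : G → ℂ) ^ 2
      = ∑ χ : IrrCharacter G, ∑ i : Fin S.s,
          if χ ∈ B then S.d i * (decomp hM S χ i * charDegree (χ : G → ℂ)) else 0 := by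
        rw [Finset.sum_filter]
        refine Finset.sum_congr rfl fun χ _ => ?_
        split_ifs with hχ
        · rw [sq]
          conv_lhs => arg 1; rw [hdeg χ]
          rw [Finset.sum_mul]
          exact Finset.sum_congr rfl fun i _ => by ring
        · simp
    _ = ∑ i : Fin S.s, ∑ χ : IrrCharacter G,
          if i ∈ blockIdx S hM B then S.d i * (decomp hM S χ i * charDegree (χ : G → ℂ)) else 0 := by
        rw [Finset.sum_comm]
        refine Finset.sum_congr rfl fun i _ => Finset.sum_congr rfl fun χ _ => ?_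
        by_cases hiff : χ ∈ B ↔ i ∈ blockIdx S hM B
        · simp only [hiff]
        · rw [decomp_eq_zero hM S hB hiff]; simp
    _ = _ := by
        rw [Finset.sum_filter]
        refine Finset.sum_congr rfl fun i _ => ?_
        split_ifs
        · rw [Finset.mul_sum]
        · simp

end CfsgLib.ModRep
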