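import Cfsg.Agent.Lib.ModRep.ModChar

/-!
# Brauer characters of the ideals cut out by idempotents, and their span
-/

set_option autoImplicit false
set_option linter.unusedSectionVars false
set_option linter.style.haveILetI false

namespace CfsgLib.ModRep

open Cfsg MonoidAlgebra CfsgLib.Blocks CfsgLib.BrauerPairs CfsgLib.Characters
open scoped ComplexConjugate

universe u

variable {G : Type u} [Group G] [Fintype G] {p : ℕ} [hp : Fact p.Prime] {M : Ideal AlgInt}
  [M.IsMaximal] {hM : IsPModular p M}

section Left

variable {K : Type*} [Field K] (b : MonoidAlgebra K G)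

/-- The left regular action. -/
noncomputable def leftReg : G →* Module.End K (MonoidAlgebra K G) where
  toFun g := LinearMap.mulLeft K (single g 1)
  map_one' := by rw [← one_def, LinearMap.mulLeft_one]; rfl
  map_mul' g h := by
    rw [show single (g * h) (1 : K) = single g 1 * single h 1 by simp, LinearMap.mulLeft_mul]
    rfl

theorem algRep_leftReg (a x : MonoidAlgebra K G) : algRep leftReg a x = a * x := by
  induction a using MonoidAlgebra.induction_on with
  | of g => simp [leftReg]
  | add y z hy hz => simp [map_add, hy, hz, add_mul]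
  | smul r y hy => simp [map_smul, hy]

theorem invariant_range_mulRight :
    Invariant (leftReg (K := K) (G := G)) (LinearMap.range (LinearMap.mulRight K b)) := by
  rintro g _ ⟨w, rfl⟩
  exact ⟨single g 1 * w, mul_assoc _ _ _⟩

/-- The left ideal generated by `b`, as a representation. -/
noncomputable def idealRep : G →* Module.End K (LinearMap.range (LinearMap.mulRight K b)) :=
  subRep (invariant_range_mulRight b)

theorem rankAt_idealRep (a : MonoidAlgebra K G) :
    rankAt (idealRep b) a = Module.finrank K
      (LinearMap.range ((LinearMap.mulLeft K a).comp (LinearMap.mulRight K b))) := by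
  let W := LinearMap.range (LinearMap.mulRight K b)
  have h : (LinearMap.range (algRep (idealRep b) a)).map W.subtype =
      LinearMap.range ((LinearMap.mulLeft K a).comp (LinearMap.mulRight K b)) := by
    ext x
    simp only [Submodule.mem_map, LinearMap.mem_range, LinearMap.comp_apply, LinearMap.mulLeft_apply,
      LinearMap.mulRight_apply]
    constructor
    · rintro ⟨_, ⟨⟨_, w, rfl⟩, rfl⟩, rfl⟩
      exact ⟨w, by rw [Submodule.subtype_apply, idealRep, algRep_subRep, algRep_leftReg]; rfl⟩
    · rintro ⟨w, rfl⟩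
      exact ⟨_, ⟨⟨w * b, w, rfl⟩, rfl⟩,
        by rw [Submodule.subtype_apply, idealRep, algRep_subRep, algRep_leftReg]⟩
  rw [rankAt, ← h, Submodule.finrank_map_subtype_eq]

/-- A central idempotent absorbed by `b` acts as the identity. -/
theorem algRep_idealRep_eq_one {e : MonoidAlgebra K G} (hc : ∀ w, e * w = w * e) (hb : e * b = b) :
    algRep (idealRep b) e = 1 := by
  apply LinearMap.ext
  rintro ⟨_, w, rfl⟩
  apply Subtype.ext
  rw [idealRep, algRep_subRep, algRep_leftReg, Module.End.one_apply]
  show e * (w * b) = w * b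
  rw [← mul_assoc, hc, mul_assoc, hb]

end Left

variable (A : Set (IrrCharacter G))

/-- The idempotent for the eigenvalue of an element inside a sum of blocks. -/
noncomputable def cutC (h : G) (l : ℕ) : MonoidAlgebra ℂ G := eigC h l * blockIdem A

theorem blockIdem_comm (z : MonoidAlgebra ℂ G) : blockIdem A * z = z * blockIdem A :=
  ((Subalgebra.mem_center_iff.1 (blockIdem_mem_center A)) z).symm

theorem cutC_idem (h : G) (l : ℕ) : cutC A h l * cutC A h l = cutC A h l := by
  rw [cutC, mul_assoc, ← mul_assoc (blockIdem A), blockIdem_comm, mul_assoc,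
    isIdempotentElem_blockIdem A, ← mul_assoc, eigC_idem]

variable {A} (hA : IsLoc hM (blockIdem A))
include hA

theorem isLoc_cutC {h : G} (hh : ¬ p ∣ orderOf h) (l : ℕ) : IsLoc hM (cutC A h l) :=
  (isLoc_eigC hh l).mul hA

theorem red_comm_blockIdem (w : MonoidAlgebra (ResK M) G) :
    red hM (blockIdem A) * w = w * red hM (blockIdem A) := by
  induction w using MonoidAlgebra.induction_on with
  | of g =>
    simp only [MonoidAlgebra.of_apply]
    rw [← red_single (hM := hM), ← red_mul hA (isLoc_single g), ← red_mul (isLoc_single g) hA,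
      blockIdem_comm]
  | add x y hx hy => rw [mul_add, add_mul, hx, hy]
  | smul r x hx => rw [mul_smul_comm, smul_mul_assoc, hx]

theorem red_blockIdem_idem :
    red hM (blockIdem A) * red hM (blockIdem A) = red hM (blockIdem A) := by
  rw [← red_mul hA hA, isIdempotentElem_blockIdem A]

theorem red_blockIdem_mul_cutC {h : G} (hh : ¬ p ∣ orderOf h) (l : ℕ) :
    red hM (blockIdem A) * red hM (cutC A h l) = red hM (cutC A h l) := by
  rw [← red_mul hA (isLoc_cutC hA hh l), cutC, blockIdem_comm, mul_assoc,
    isIdempotentElem_blockIdem A]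

open scoped Classical in
/-- The weighted Brauer characters of the cut ideals. -/
theorem sum_modChar_cut {g h : G} (hg : ¬ p ∣ orderOf g) (hh : ¬ p ∣ orderOf h) :
    ∑ l ∈ Finset.range (orderOf h), zeta h ^ l * modChar hM (idealRep (red hM (cutC A h l))) g =
      ∑ χ ∈ Finset.univ.filter (· ∈ A), (χ : G → ℂ) g * (χ : G → ℂ) h := by
  simp only [modChar_of_regular _ hg, rankAt_idealRep,
    rank_multMat_red (isLoc_eigC hg _) (isLoc_cutC hA hh _) (eigC_idem _ _) (cutC_idem A _ _),
    Finset.mul_sum]
  rw [Finset.sum_comm, Finset.sum_congr rfl fun j _ => Finset.sum_comm, Finset.sum_comm,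
    Finset.sum_filter]
  refine Finset.sum_congr rfl fun χ _ => ?_
  have h0 := irr_one_ne_zero χ
  have e1 : ∑ j ∈ Finset.range (orderOf g), zeta g ^ j * omega (χ : G → ℂ) (eigC g j) =
      (χ : G → ℂ) g / (χ : G → ℂ) 1 := by
    rw [← one_mul ((χ : G → ℂ) g), ← omega_single, ← sum_zeta_eigC, map_sum]
    exact Finset.sum_congr rfl fun j _ => by rw [map_smul, smul_eq_mul]
  have e2 : ∑ l ∈ Finset.range (orderOf h), zeta h ^ l * omega (χ : G → ℂ) (cutC A h l) =
      (if χ ∈ A then 1 else 0) * ((χ : G → ℂ) h / (χ : G → ℂ) 1) := by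
    rw [← omega_blockIdem A χ, ← one_mul ((χ : G → ℂ) h), ← omega_single,
      ← omega_mul χ (blockIdem_mem_center A), ← sum_zeta_eigC, Finset.mul_sum, map_sum]
    exact Finset.sum_congr rfl fun l _ => by
      rw [mul_smul_comm, map_smul, smul_eq_mul, cutC, blockIdem_comm]
  calc ∑ j ∈ Finset.range (orderOf g), ∑ l ∈ Finset.range (orderOf h),
        zeta h ^ l * (zeta g ^ j * ((χ : G → ℂ) 1 ^ 2 *
          (omega (χ : G → ℂ) (eigC g j) * omega (χ : G → ℂ) (cutC A h l))))
      = (χ : G → ℂ) 1 ^ 2 *
          ((∑ j ∈ Finset.range (orderOf g), zeta g ^ j * omega (χ : G → ℂ) (eigC g j)) *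
           ∑ l ∈ Finset.range (orderOf h), zeta h ^ l * omega (χ : G → ℂ) (cutC A h l)) := by
        rw [Finset.sum_mul_sum]
        simp only [Finset.mul_sum]
        exact Finset.sum_congr rfl fun j _ => Finset.sum_congr rfl fun l _ => by ring
    _ = if χ ∈ A then (χ : G → ℂ) g * (χ : G → ℂ) h else 0 := by
        rw [e1, e2]
        split_ifs
        · field_simp
        · simp

variable (S : Sys (ResK M) G)

/-- The Brauer character of a cut ideal only involves the members inside. -/
theorem modChar_cut_mem_span {h : G} (hh : ¬ p ∣ orderOf h) (l : ℕ) :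
    modChar hM (idealRep (red hM (cutC A h l))) ∈ Submodule.span ℂ
      ((fun i => modChar hM (S.rep i)) '' {i | algRep (S.rep i) (red hM (blockIdem A)) = 1}) := by
  set e := red hM (blockIdem A)
  obtain ⟨a, ha, heq⟩ := exists_modChar_eq (hM := hM) S (idealRep (red hM (cutC A h l)))
  have h1 : algRep (idealRep (red hM (cutC A h l))) (1 - e) = 0 := by
    rw [map_sub, map_one, algRep_idealRep_eq_one _ (red_comm_blockIdem hA)
      (red_blockIdem_mul_cutC hA hh l), sub_self]
  have h2 := ha (1 - e) (by
    rw [mul_sub, mul_one, sub_mul, one_mul, red_blockIdem_idem hA, sub_self, sub_zero])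
  rw [rankAt, h1, LinearMap.range_zero, finrank_bot] at h2
  rw [heq]
  refine Submodule.sum_mem _ fun i _ => ?_
  by_cases hi : a i = 0
  · simp [hi]
  · refine Submodule.smul_mem _ _ (Submodule.subset_span ⟨i, ?_, rfl⟩)
    have h3 : a i * rankAt (S.rep i) (1 - e) = 0 :=
      (Finset.sum_eq_zero_iff.1 h2.symm) i (Finset.mem_univ i)
    have h4 : algRep (S.rep i) (1 - e) = 0 := LinearMap.range_eq_bot.1
      (Submodule.finrank_eq_zero.1 ((mul_eq_zero.1 h3).resolve_left hi))
    rw [map_sub, map_one, sub_eq_zero] at h4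
    exact h4.symm

/-- The restrictions of the members are combinations of the Brauer characters inside. -/
theorem pRegularPart_mem_span {ψ : IrrCharacter G} (hψ : ψ ∈ A) :
    pRegularPart p (ψ : G → ℂ) ∈ Submodule.span ℂ
      ((fun i => modChar hM (S.rep i)) '' {i | algRep (S.rep i) (red hM (blockIdem A)) = 1}) := by
  classical
  set U := Submodule.span ℂ
      ((fun i => modChar hM (S.rep i)) '' {i | algRep (S.rep i) (red hM (blockIdem A)) = 1})
  set s := Finset.univ.filter (fun χ : IrrCharacter G => χ ∈ A)
  have hpR : ∀ (f : G → ℂ) (g : G), pRegularPart p f g = if p ∣ orderOf g then 0 else f g := by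
    intro f g
    by_cases h : p ∣ orderOf g <;> simp [pRegularPart, IsPRegular, h]
  have hF : ∀ h : G, ¬ p ∣ orderOf h →
      (∑ χ ∈ s, (χ : G → ℂ) h • pRegularPart p (χ : G → ℂ)) ∈ U := by
    intro h hh
    rw [show (∑ χ ∈ s, (χ : G → ℂ) h • pRegularPart p (χ : G → ℂ)) =
      ∑ l ∈ Finset.range (orderOf h), zeta h ^ l • modChar hM (idealRep (red hM (cutC A h l))) from ?_]
    · exact Submodule.sum_mem _ fun l _ => Submodule.smul_mem _ _ (modChar_cut_mem_span hA S hh l)
    funext g
    simp only [Finset.sum_apply, Pi.smul_apply, smul_eq_mul, hpR]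
    by_cases hg : p ∣ orderOf g
    · simp [hg, modChar_of_singular _ hg]
    · simp only [if_neg hg]
      rw [sum_modChar_cut hA hg hh]
      exact Finset.sum_congr rfl fun χ _ => mul_comm _ _
  suffices ∀ f : Module.Dual ℂ (G → ℂ), U ≤ LinearMap.ker f → f (pRegularPart p (ψ : G → ℂ)) = 0 by
    by_contra hnot
    obtain ⟨f, hf0, hfU⟩ := Submodule.exists_dual_map_eq_bot_of_notMem hnot inferInstance
    exact hf0 (this f (LinearMap.le_ker_iff_map.2 hfU))
  intro f hf
  set c : IrrCharacter G → ℂ := fun χ => f (pRegularPart p (χ : G → ℂ))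
  have h1 : ∀ h : G, ¬ p ∣ orderOf h → ∑ χ ∈ s, (χ : G → ℂ) h * c χ = 0 := by
    intro h hh
    have := LinearMap.mem_ker.1 (hf (hF h hh))
    simpa [map_sum] using this
  have h2 : (∑ χ ∈ s, conj (c χ) • pRegularPart p (χ : G → ℂ)) = 0 := by
    funext g
    simp only [Finset.sum_apply, Pi.smul_apply, smul_eq_mul, hpR, Pi.zero_apply]
    by_cases hg : p ∣ orderOf g
    · simp [hg]
    · simp only [if_neg hg]
      have := congrArg conj (h1 g⁻¹ (by rwa [orderOf_inv]))
      simp only [map_sum, map_mul, map_zero, irr_apply_inv, Complex.conj_conj] at this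
      rw [← this]
      exact Finset.sum_congr rfl fun χ _ => mul_comm _ _
  have h3 := congrArg f h2
  rw [map_sum, map_zero] at h3
  simp only [map_smul, smul_eq_mul, ← Complex.normSq_eq_conj_mul_self, ← Complex.ofReal_sum,
    Complex.ofReal_eq_zero, c] at h3
  exact Complex.normSq_eq_zero.1 ((Finset.sum_eq_zero_iff_of_nonneg fun χ _ => Complex.normSq_nonneg _).1
    h3 ψ (by simp [s, hψ]))

end CfsgLib.ModRep
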