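import Cfsg.Agent.Lib.ModRep.Rank
import Mathlib.Algebra.MonoidAlgebra.Module
import Mathlib.RingTheory.RootsOfUnity.Complex

/-!
# Eigen-idempotents and two-sided multiplication on the group algebra
-/

set_option autoImplicit false
set_option linter.unusedSectionVars false
set_option linter.style.haveILetI false

namespace CfsgLib.ModRep

open Cfsg MonoidAlgebra CfsgLib.Blocks CfsgLib.BrauerPairs CfsgLib.Characters
open scoped ComplexConjugate

universe u

variable {G : Type u} [Group G] [Fintype G]

/-- The standard root of unity attached to an element. -/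
noncomputable def zeta (g : G) : ℂ := Complex.exp (2 * Real.pi * Complex.I / orderOf g)

theorem zeta_prim (g : G) : IsPrimitiveRoot (zeta g) (orderOf g) :=
  Complex.isPrimitiveRoot_exp _ (orderOf_pos g).ne'

/-- The idempotent of an element for the eigenvalue `ζ ^ j`. -/
noncomputable def eigC (g : G) (j : ℕ) : MonoidAlgebra ℂ G :=
  (orderOf g : ℂ)⁻¹ • ∑ i ∈ Finset.range (orderOf g), single (g ^ i) (((zeta g ^ j)⁻¹) ^ i)

theorem orderOf_ne_zero' (g : G) : (orderOf g : ℂ) ≠ 0 :=
  Nat.cast_ne_zero.2 (orderOf_pos g).ne'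

theorem single_mul_eigC (g : G) (j : ℕ) :
    single g (1 : ℂ) * eigC g j = (zeta g ^ j) • eigC g j := by
  have hz : (zeta g ^ j) ^ orderOf g = 1 := by
    rw [← pow_mul, mul_comm, pow_mul, (zeta_prim g).pow_eq_one, one_pow]
  have hz0 : zeta g ^ j ≠ 0 := pow_ne_zero _ (Complex.exp_ne_zero _)
  set c := zeta g ^ j with hc
  rw [eigC, ← hc, mul_smul_comm, smul_comm]
  congr 1
  rw [Finset.mul_sum, Finset.smul_sum]
  have h1 : ∀ i, single g (1 : ℂ) * single (g ^ i) (c⁻¹ ^ i) = c • single (g ^ (i + 1)) (c⁻¹ ^ (i + 1)) := by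
    intro i
    rw [single_mul_single, smul_single, one_mul, ← pow_succ', smul_eq_mul, pow_succ' c⁻¹,
      ← mul_assoc, mul_inv_cancel₀ hz0, one_mul]
  simp only [h1, ← Finset.smul_sum]
  congr 1
  refine eq_of_sub_eq_zero ?_
  rw [← Finset.sum_sub_distrib, Finset.sum_range_sub (fun i => single (g ^ i) (c⁻¹ ^ i)),
    pow_orderOf_eq_one, inv_pow, hz, inv_one, pow_zero, pow_zero, sub_self]

theorem eigC_idem (g : G) (j : ℕ) : eigC g j * eigC g j = eigC g j := by
  have hz0 : zeta g ^ j ≠ 0 := pow_ne_zero _ (Complex.exp_ne_zero _)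
  have hi : ∀ i : ℕ, single (g ^ i) ((zeta g ^ j)⁻¹ ^ i) * eigC g j = eigC g j := by
    intro i
    induction i with
    | zero => simp [← one_def]
    | succ i ih =>
      rw [show single (g ^ (i + 1)) ((zeta g ^ j)⁻¹ ^ (i + 1)) =
          single (g ^ i) ((zeta g ^ j)⁻¹ ^ i) * ((zeta g ^ j)⁻¹ • single g (1 : ℂ)) by
        rw [smul_single, single_mul_single, smul_eq_mul, mul_one, ← pow_succ, ← pow_succ]]
      rw [mul_assoc, smul_mul_assoc, single_mul_eigC, smul_smul, inv_mul_cancel₀ hz0, one_smul, ih]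
  conv_lhs => arg 1; rw [eigC]
  rw [smul_mul_assoc, Finset.sum_mul, Finset.sum_congr rfl (fun i _ => hi i), Finset.sum_const,
    Finset.card_range, ← Nat.cast_smul_eq_nsmul ℂ, smul_smul,
    inv_mul_cancel₀ (orderOf_ne_zero' g), one_smul]

theorem sum_eigC (g : G) : ∑ j ∈ Finset.range (orderOf g), eigC g j = 1 := by
  classical
  simp only [eigC]
  rw [← Finset.smul_sum, Finset.sum_comm]
  rw [Finset.sum_eq_single_of_mem 0 (Finset.mem_range.2 (orderOf_pos g))]
  · simp only [pow_zero, Finset.sum_const, Finset.card_range]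
    rw [← Nat.cast_smul_eq_nsmul ℂ, smul_smul, inv_mul_cancel₀ (orderOf_ne_zero' g), one_smul, one_def]
  · intro i hi hi0
    ext x
    simp only [coeff_sum, Finsupp.finsetSum_apply, coeff_single, coeff_zero, Finsupp.zero_apply]
    rcases eq_or_ne (g ^ i) x with rfl | hx
    · simp only [Finsupp.single_eq_same]
      have h1 : (zeta g)⁻¹ ^ i ≠ 1 :=
        (zeta_prim g).inv.pow_ne_one_of_pos_of_lt hi0 (Finset.mem_range.1 hi)
      have h2 : ((zeta g)⁻¹ ^ i) ^ orderOf g = 1 := by
        rw [← pow_mul, mul_comm, pow_mul, (zeta_prim g).inv.pow_eq_one, one_pow]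
      rw [show (fun j : ℕ => ((zeta g ^ j)⁻¹) ^ i) = fun j => ((zeta g)⁻¹ ^ i) ^ j from
        funext fun j => by rw [← inv_pow, ← pow_mul, ← pow_mul, mul_comm],
        geom_sum_eq h1, h2, sub_self, zero_div]
    · exact Finset.sum_eq_zero fun j _ => Finsupp.single_eq_of_ne' hx

theorem sum_zeta_eigC (g : G) :
    ∑ j ∈ Finset.range (orderOf g), (zeta g ^ j) • eigC g j = single g (1 : ℂ) := by
  rw [← Finset.sum_congr rfl fun j _ => single_mul_eigC g j, ← Finset.mul_sum, sum_eigC, mul_one]

theorem orderOf_conj (g h : G) : orderOf (h * g * h⁻¹) = orderOf g := (MulAut.conj h).orderOf_eq g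

theorem eigC_conj (g h : G) (j : ℕ) :
    eigC (h * g * h⁻¹) j = single h (1 : ℂ) * eigC g j * single h⁻¹ 1 := by
  simp only [eigC, zeta, orderOf_conj, mul_smul_comm, smul_mul_assoc, Finset.mul_sum, Finset.sum_mul,
    single_mul_single, one_mul, mul_one, conj_pow]

/-- The matrix of `x ↦ a * x * b`. -/
noncomputable def multMat {R : Type*} [CommRing R] (a b : MonoidAlgebra R G) : Matrix G G R :=
  Matrix.of fun x y => (a * single y 1 * b).coeff x

theorem multMat_map {R S : Type*} [CommRing R] [CommRing S] (f : R →+* S) (a b : MonoidAlgebra R G) :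
    (multMat a b).map f =
      multMat (MonoidAlgebra.mapRingHom G f a) (MonoidAlgebra.mapRingHom G f b) := by
  ext x y
  have : MonoidAlgebra.mapRingHom G f (single y 1) = single y 1 := by simp
  simp only [Matrix.map_apply, multMat, Matrix.of_apply, ← this, ← map_mul, coeff_mapRingHom,
    Finsupp.mapRange_apply]

theorem multMat_eq_toMatrix [DecidableEq G] {K : Type*} [Field K] (a b : MonoidAlgebra K G) :
    multMat a b = LinearMap.toMatrix (MonoidAlgebra.basis G K) (MonoidAlgebra.basis G K)
      ((LinearMap.mulLeft K a).comp (LinearMap.mulRight K b)) := by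
  ext x y
  rw [LinearMap.toMatrix_apply]
  simp [multMat, MonoidAlgebra.basis, mul_assoc]

theorem rank_multMat {K : Type*} [Field K] (a b : MonoidAlgebra K G) :
    (multMat a b).rank = Module.finrank K
      (LinearMap.range ((LinearMap.mulLeft K a).comp (LinearMap.mulRight K b))) := by
  classical
  rw [multMat_eq_toMatrix, ← finrank_range_eq_rank]

theorem multMat_idem [DecidableEq G] {a b : MonoidAlgebra ℂ G} (ha : a * a = a) (hb : b * b = b) :
    multMat a b * multMat a b = multMat a b := by
  rw [multMat_eq_toMatrix, ← LinearMap.toMatrix_comp]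
  congr 1
  apply LinearMap.ext
  intro x
  simp only [LinearMap.comp_apply, LinearMap.mulLeft_apply, LinearMap.mulRight_apply]
  rw [show a * (a * (x * b) * b) = a * a * (x * (b * b)) by simp only [mul_assoc], ha, hb]

/-- The coefficient at `1` in terms of the central characters. -/
theorem coeff_one_eq [DecidableEq G] (z : MonoidAlgebra ℂ G) :
    z.coeff 1 = (Nat.card G : ℂ)⁻¹ *
      ∑ χ : IrrCharacter G, (χ : G → ℂ) 1 ^ 2 * omega (χ : G → ℂ) z := by
  have hn : (Nat.card G : ℂ) ≠ 0 := Nat.cast_ne_zero.2 Nat.card_pos.ne'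
  have h : ∀ χ : IrrCharacter G, (χ : G → ℂ) 1 ^ 2 * omega (χ : G → ℂ) z =
      ∑ x : G, z.coeff x * ((χ : G → ℂ) 1 * (χ : G → ℂ) x) := by
    intro χ
    rw [omega_apply, pow_two, mul_assoc, mul_div_cancel₀ _ (irr_one_ne_zero χ), Finset.mul_sum]
    exact Finset.sum_congr rfl fun x _ => by ring
  simp only [h]
  rw [Finset.sum_comm]
  simp only [← Finset.mul_sum, sum_degree_mul_irr, mul_ite, mul_zero, Finset.sum_ite_eq',
    Finset.mem_univ, if_true]
  field_simp

/-- The sum of the conjugates of an element. -/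
noncomputable def conjSum (a : MonoidAlgebra ℂ G) : MonoidAlgebra ℂ G :=
  ∑ y : G, single y⁻¹ (1 : ℂ) * a * single y 1

theorem conjSum_mem_center (a : MonoidAlgebra ℂ G) :
    conjSum a ∈ Subalgebra.center ℂ (MonoidAlgebra ℂ G) := by
  refine Subalgebra.mem_center_iff.2 fun z => ?_
  induction z using MonoidAlgebra.induction_on with
  | of g =>
    simp only [conjSum, MonoidAlgebra.of_apply, Finset.mul_sum, Finset.sum_mul]
    refine Fintype.sum_equiv (Equiv.mulRight g⁻¹) _ _ fun y => ?_
    simp only [Equiv.coe_mulRight, mul_assoc, single_mul_single, one_mul, mul_inv_rev, inv_inv,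
      inv_mul_cancel, mul_one]
    rw [← mul_assoc, single_mul_single, one_mul]
  | add x y hx hy => rw [add_mul, mul_add, hx, hy]
  | smul r x hx => rw [smul_mul_assoc, mul_smul_comm, hx]

theorem omega_conj (χ : IrrCharacter G) (y : G) (a : MonoidAlgebra ℂ G) :
    omega (χ : G → ℂ) (single y⁻¹ (1 : ℂ) * a * single y 1) = omega (χ : G → ℂ) a := by
  induction a using MonoidAlgebra.induction_on with
  | of g =>
    simp only [MonoidAlgebra.of_apply, single_mul_single, one_mul, omega_single]
    have := irr_isClassFunction χ g y⁻¹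
    rw [inv_inv] at this
    rw [this]
  | add x z hx hz => rw [mul_add, add_mul, map_add, map_add, hx, hz]
  | smul r x hx => rw [mul_smul_comm, smul_mul_assoc, map_smul, map_smul, hx]

/-- The trace of two-sided multiplication. -/
theorem trace_multMat [DecidableEq G] (a b : MonoidAlgebra ℂ G) :
    (multMat a b).trace = ∑ χ : IrrCharacter G,
      (χ : G → ℂ) 1 ^ 2 * (omega (χ : G → ℂ) a * omega (χ : G → ℂ) b) := by
  have htr : (multMat a b).trace = (conjSum a * b).coeff 1 := by
    rw [conjSum, Finset.sum_mul, coeff_sum, Finsupp.finsetSum_apply, Matrix.trace]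
    refine Finset.sum_congr rfl fun y _ => ?_
    rw [Matrix.diag_apply, multMat, Matrix.of_apply,
      show single y⁻¹ (1 : ℂ) * a * single y 1 * b = single y⁻¹ (1 : ℂ) * (a * single y 1 * b) by
        simp only [mul_assoc], coeff_single_mul_apply]
    simp
  have hn : (Nat.card G : ℂ) ≠ 0 := Nat.cast_ne_zero.2 Nat.card_pos.ne'
  rw [htr, coeff_one_eq, Finset.mul_sum]
  refine Finset.sum_congr rfl fun χ _ => ?_
  rw [omega_mul χ (conjSum_mem_center a), conjSum, map_sum,
    Finset.sum_congr rfl fun y _ => omega_conj χ y a, Finset.sum_const, Finset.card_univ,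
    ← Nat.card_eq_fintype_card, nsmul_eq_mul]
  field_simp

variable {p : ℕ} {M : Ideal AlgInt} [M.IsMaximal] (hM : IsPModular p M)

/-- Local integrality of the coefficients. -/
def IsLoc (a : MonoidAlgebra ℂ G) : Prop := ∀ x, a.coeff x ∈ lRing hM

/-- Reduction of an element with local integral coefficients. -/
noncomputable def red (a : MonoidAlgebra ℂ G) : MonoidAlgebra (ResK M) G := redFun hM (a.coeff ·)

variable {hM}

theorem IsLoc.mul {a b : MonoidAlgebra ℂ G} (ha : IsLoc hM a) (hb : IsLoc hM b) :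
    IsLoc hM (a * b) := coeff_mul_mem hM ha hb

theorem red_mul {a b : MonoidAlgebra ℂ G} (ha : IsLoc hM a) (hb : IsLoc hM b) :
    red hM (a * b) = red hM a * red hM b := redFun_mul hM ha hb

theorem red_sum {ι : Type*} (s : Finset ι) {a : ι → MonoidAlgebra ℂ G} (ha : ∀ i, IsLoc hM (a i)) :
    red hM (∑ i ∈ s, a i) = ∑ i ∈ s, red hM (a i) := by
  choose u hu using fun i => exists_lift hM (ha i)
  simp only [red]
  simp only [← hu, ← map_sum, redFun_mapRingHom]

theorem red_smul {a : MonoidAlgebra ℂ G} (ha : IsLoc hM a) {r : ℂ} (hr : r ∈ lRing hM) :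
    red hM (r • a) = resK hM ⟨r, hr⟩ • red hM a := by
  rw [red, red, ← redFun_smul hM ⟨r, hr⟩ ha]
  congr 1

theorem red_single (g : G) : red hM (single g 1) = single g 1 := by
  rw [red, show (single g (1 : ℂ)) = MonoidAlgebra.mapRingHom G (lRing hM).subtype (single g 1) by simp,
    redFun_mapRingHom]
  simp

theorem red_one : red hM (1 : MonoidAlgebra ℂ G) = 1 := red_single (hM := hM) 1

theorem isLoc_single (g : G) : IsLoc hM (single g (1 : ℂ)) := fun x => by
  classical
  rw [coeff_single, Finsupp.single_apply]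
  split_ifs
  · exact Subring.one_mem _
  · exact Subring.zero_mem _

theorem zeta_mem (g : G) : zeta g ∈ lRing hM :=
  isIntegral_mem_lRing hM (IsIntegral.of_pow (orderOf_pos g)
    (by rw [(zeta_prim g).pow_eq_one]; exact isIntegral_one))

theorem isLoc_eigC {g : G} (hg : ¬ p ∣ orderOf g) (j : ℕ) : IsLoc hM (eigC g j) := by
  classical
  intro x
  rw [eigC, coeff_smul_apply, coeff_sum, Finsupp.finsetSum_apply]
  refine Subring.mul_mem _ (inv_natCast_mem_lRing hM hg) (Subring.sum_mem _ fun i _ => ?_)
  rw [coeff_single, Finsupp.single_apply]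
  split_ifs
  · refine Subring.pow_mem _ (isIntegral_mem_lRing hM (IsIntegral.of_pow (orderOf_pos g) ?_)) i
    rw [inv_pow, ← pow_mul, mul_comm, pow_mul, (zeta_prim g).pow_eq_one, one_pow, inv_one]
    exact isIntegral_one
  · exact Subring.zero_mem _

/-- The rank of reduced two-sided multiplication by idempotents. -/
theorem rank_multMat_red {a b : MonoidAlgebra ℂ G} (ha : IsLoc hM a) (hb : IsLoc hM b)
    (ha2 : a * a = a) (hb2 : b * b = b) :
    (Module.finrank (ResK M) (LinearMap.range ((LinearMap.mulLeft (ResK M) (red hM a)).comp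
      (LinearMap.mulRight (ResK M) (red hM b)))) : ℂ) =
      ∑ χ : IrrCharacter G, (χ : G → ℂ) 1 ^ 2 * (omega (χ : G → ℂ) a * omega (χ : G → ℂ) b) := by
  classical
  obtain ⟨u, rfl⟩ := exists_lift hM ha
  obtain ⟨v, rfl⟩ := exists_lift hM hb
  rw [← trace_multMat, trace_eq_rank _ (multMat_idem ha2 hb2), ← rank_multMat]
  congr 1
  simp only [red]
  rw [redFun_mapRingHom, redFun_mapRingHom, ← multMat_map, ← multMat_map]
  refine rank_red_eq hM _ ?_
  apply Matrix.map_injective (f := (lRing hM).subtype) Subtype.val_injective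
  show (multMat u v * multMat u v).map (lRing hM).subtype = (multMat u v).map (lRing hM).subtype
  rw [Matrix.map_mul, multMat_map]
  exact multMat_idem ha2 hb2

end CfsgLib.ModRep
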