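import Cfsg.Agent.Lib.ModRep.Idem
import Cfsg.Agent.Lib.ModRep.Simple
import Cfsg.Agent.Lib.Blocks.PPart
import Cfsg.Agent.Lib.BrauerPairs.Bridge
import Cfsg.Prelude.Def_BlockRank

/-!
# Brauer characters
-/

set_option autoImplicit false
set_option linter.unusedSectionVars false
set_option linter.style.haveILetI false

namespace CfsgLib.ModRep

open Cfsg MonoidAlgebra CfsgLib.Blocks CfsgLib.BrauerPairs

universe u

variable {G : Type u} [Group G] [Fintype G] {p : ℕ} [hp : Fact p.Prime] {M : Ideal AlgInt}
  [M.IsMaximal] {hM : IsPModular p M} {V : Type*} [AddCommGroup V] [Module (ResK M) V]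

variable (hM) in
/-- The Brauer character, extended by zero to the singular elements. -/
noncomputable def modChar (ρ : G →* Module.End (ResK M) V) (g : G) : ℂ := by
  classical exact
    if IsPRegular p g then
      ∑ j ∈ Finset.range (orderOf g), zeta g ^ j * (rankAt ρ (red hM (eigC g j)) : ℂ)
    else 0

theorem modChar_of_regular (ρ : G →* Module.End (ResK M) V) {g : G} (hg : ¬ p ∣ orderOf g) :
    modChar hM ρ g =
      ∑ j ∈ Finset.range (orderOf g), zeta g ^ j * (rankAt ρ (red hM (eigC g j)) : ℂ) := by
  classical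
  rw [modChar]
  exact if_pos hg

theorem modChar_of_singular (ρ : G →* Module.End (ResK M) V) {g : G} (hg : p ∣ orderOf g) :
    modChar hM ρ g = 0 := by
  classical
  rw [modChar]
  exact if_neg fun h => h hg

theorem red_eigC_idem {g : G} (hg : ¬ p ∣ orderOf g) (j : ℕ) :
    red hM (eigC g j) * red hM (eigC g j) = red hM (eigC g j) := by
  rw [← red_mul (isLoc_eigC hg j) (isLoc_eigC hg j), eigC_idem]

theorem modChar_mem (ρ : G →* Module.End (ResK M) V) (g : G) : modChar hM ρ g ∈ lRing hM := by
  classical
  by_cases hg : p ∣ orderOf g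
  · rw [modChar_of_singular ρ hg]; exact Subring.zero_mem _
  · rw [modChar_of_regular ρ hg]
    exact Subring.sum_mem _ fun j _ =>
      Subring.mul_mem _ (Subring.pow_mem _ (zeta_mem g) j) (natCast_mem _ _)

theorem trace_idem [FiniteDimensional (ResK M) V] (ρ : G →* Module.End (ResK M) V)
    {e : MonoidAlgebra (ResK M) G} (he : e * e = e) :
    LinearMap.trace (ResK M) V (algRep ρ e) = (rankAt ρ e : ResK M) := by
  refine LinearMap.IsProj.trace ⟨fun v => LinearMap.mem_range_self _ v, ?_⟩
  rintro _ ⟨w, rfl⟩
  rw [← Module.End.mul_apply, ← map_mul, he]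

/-- The residue of the Brauer character is the trace. -/
theorem resK_modChar [FiniteDimensional (ResK M) V] (ρ : G →* Module.End (ResK M) V) {g : G}
    (hg : ¬ p ∣ orderOf g) :
    resK hM ⟨modChar hM ρ g, modChar_mem ρ g⟩ = LinearMap.trace (ResK M) V (ρ g) := by
  have h1 : algRep ρ (red hM (∑ j ∈ Finset.range (orderOf g), zeta g ^ j • eigC g j)) = ρ g := by
    rw [sum_zeta_eigC, red_single, algRep_single, one_smul]
  rw [← h1, red_sum _ (fun j x => by
    rw [coeff_smul_apply, smul_eq_mul]
    exact Subring.mul_mem _ (Subring.pow_mem _ (zeta_mem g) j) (isLoc_eigC hg j x)), map_sum, map_sum]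
  rw [show (⟨modChar hM ρ g, modChar_mem ρ g⟩ : lRing hM) = ∑ j ∈ Finset.range (orderOf g),
      ⟨zeta g ^ j, Subring.pow_mem _ (zeta_mem g) j⟩ * (rankAt ρ (red hM (eigC g j)) : lRing hM) from
    Subtype.ext (by simp [modChar_of_regular ρ hg]), map_sum]
  refine Finset.sum_congr rfl fun j _ => ?_
  rw [red_smul (isLoc_eigC hg j) (Subring.pow_mem _ (zeta_mem g) j), map_smul, map_smul,
    trace_idem ρ (red_eigC_idem hg j), smul_eq_mul, map_mul, map_natCast]

theorem modChar_one [FiniteDimensional (ResK M) V] (ρ : G →* Module.End (ResK M) V) :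
    modChar hM ρ 1 = (Module.finrank (ResK M) V : ℂ) := by
  have h1 : ¬ p ∣ orderOf (1 : G) := by rw [orderOf_one]; exact hp.out.not_dvd_one
  have h2 : eigC (1 : G) 0 = 1 := by simp [eigC, ← one_def]
  rw [modChar_of_regular ρ h1, orderOf_one, Finset.sum_range_one, h2, pow_zero, one_mul, red_one,
    rankAt, map_one, Module.End.one_eq_id, LinearMap.range_id, finrank_top]

theorem modChar_conj (ρ : G →* Module.End (ResK M) V) (g h : G) :
    modChar hM ρ (h * g * h⁻¹) = modChar hM ρ g := by
  classical
  by_cases hg : p ∣ orderOf g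
  · rw [modChar_of_singular ρ hg, modChar_of_singular ρ (by rwa [orderOf_conj])]
  · rw [modChar_of_regular ρ hg, modChar_of_regular ρ (by rwa [orderOf_conj]), orderOf_conj]
    refine Finset.sum_congr rfl fun j _ => ?_
    rw [zeta, orderOf_conj, ← zeta]
    congr 2
    let L : V ≃ₗ[ResK M] V := LinearEquiv.ofLinear (ρ h) (ρ h⁻¹)
      (by rw [← Module.End.mul_eq_comp, ← map_mul, mul_inv_cancel, map_one]; rfl)
      (by rw [← Module.End.mul_eq_comp, ← map_mul, inv_mul_cancel, map_one]; rfl)
    have hr : red hM (eigC (h * g * h⁻¹) j) = single h 1 * red hM (eigC g j) * single h⁻¹ 1 := by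
      rw [eigC_conj, red_mul ((isLoc_single h).mul (isLoc_eigC hg j)) (isLoc_single _),
        red_mul (isLoc_single h) (isLoc_eigC hg j), red_single, red_single]
    have hmap : (LinearMap.range (algRep ρ (red hM (eigC g j)))).map L.toLinearMap =
        LinearMap.range (algRep ρ (red hM (eigC (h * g * h⁻¹) j))) := by
      rw [hr, map_mul, map_mul, algRep_single, algRep_single, one_smul, one_smul]
      ext x
      simp only [Submodule.mem_map, LinearMap.mem_range]
      constructor
      · rintro ⟨_, ⟨v, rfl⟩, rfl⟩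
        refine ⟨ρ h v, ?_⟩
        have hv : ρ h⁻¹ (ρ h v) = v := L.symm_apply_apply v
        simp only [Module.End.mul_apply, hv]
        rfl
      · rintro ⟨v, rfl⟩
        exact ⟨_, ⟨ρ h⁻¹ v, rfl⟩, rfl⟩
    rw [rankAt, rankAt, ← hmap, LinearEquiv.finrank_map_eq]

theorem isClassFunction_modChar (ρ : G →* Module.End (ResK M) V) :
    IsClassFunction G (modChar hM ρ) := fun g h => modChar_conj ρ g h

theorem modChar_equiv {W : Type*} [AddCommGroup W] [Module (ResK M) W]
    {ρ : G →* Module.End (ResK M) V} {σ : G →* Module.End (ResK M) W} (L : V ≃ₗ[ResK M] W)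
    (h : ∀ g v, L (ρ g v) = σ g (L v)) : modChar hM ρ = modChar hM σ := by
  funext g
  simp only [modChar, Sys.rankAt_equiv L h]

variable (S : Sys (ResK M) G)

/-- A Brauer character is a combination of those of the system. -/
theorem exists_modChar_eq [FiniteDimensional (ResK M) V] (ρ : G →* Module.End (ResK M) V) :
    ∃ a : Fin S.s → ℕ, (∀ e : MonoidAlgebra (ResK M) G, e * e = e →
        rankAt ρ e = ∑ i, a i * rankAt (S.rep i) e) ∧
      modChar hM ρ = ∑ i, (a i : ℂ) • modChar hM (S.rep i) := by
  obtain ⟨a, ha⟩ := S.exists_mult _ ρ rfl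
  refine ⟨a, ha, funext fun g => ?_⟩
  simp only [Finset.sum_apply, Pi.smul_apply, smul_eq_mul]
  by_cases hg : p ∣ orderOf g
  · simp [modChar_of_singular _ hg]
  · simp only [modChar_of_regular _ hg, Finset.mul_sum]
    rw [Finset.sum_comm]
    refine Finset.sum_congr rfl fun j _ => ?_
    rw [ha _ (red_eigC_idem hg j)]
    push_cast
    rw [Finset.mul_sum]
    exact Finset.sum_congr rfl fun i _ => by ring

/-- The Brauer characters of the system are linearly independent. -/
theorem modChar_linearIndependent :
    LinearIndependent ℂ (fun i : Fin S.s => modChar hM (S.rep i)) := by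
  classical
  have := charP_res hM
  let R := {g : G // IsPRegular p g}
  let A : Matrix R (Fin S.s) (lRing hM) :=
    Matrix.of fun g i => ⟨modChar hM (S.rep i) g.1, modChar_mem _ _⟩
  have hinj : Function.Injective (A.map (resK hM)).mulVecLin := by
    rw [← LinearMap.ker_eq_bot, LinearMap.ker_eq_bot']
    intro c hc
    have hall : ∀ g : G, ∑ i, c i * LinearMap.trace (ResK M) _ (S.rep i g) = 0 := by
      intro g
      obtain ⟨x, y, rfl, hxy, ⟨k, hk⟩, hy⟩ := exists_isPPart hp.out g
      have h0 := congrFun hc ⟨y, hy⟩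
      simp only [Matrix.mulVecLin_apply, Matrix.mulVec, dotProduct, Matrix.map_apply, A,
        Matrix.of_apply, resK_modChar _ (hy : ¬ p ∣ orderOf y)] at h0
      refine Eq.trans (Finset.sum_congr rfl fun i _ => ?_) h0
      rw [trace_eq_of_pow_prime_eq_one hxy (hk ▸ pow_orderOf_eq_one x : x ^ p ^ k = 1), mul_comm]
    have hlin : ∀ a : MonoidAlgebra (ResK M) G,
        ∑ i, c i * LinearMap.trace (ResK M) _ (algRep (S.rep i) a) = 0 := by
      intro a
      induction a using MonoidAlgebra.induction_on with
      | of g => simpa using hall g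
      | add x y hx hy => simp [map_add, mul_add, Finset.sum_add_distrib, hx, hy]
      | smul r x hx =>
        simp only [map_smul, smul_eq_mul, mul_left_comm (c _) r]
        exact (Finset.mul_sum _ _ _).symm.trans ((congrArg (r * ·) hx).trans (mul_zero r))
    funext i
    have : NeZero (S.d i) := ⟨(S.pos i).ne'⟩
    obtain ⟨a, ha⟩ := S.surj (Pi.single i (Matrix.single 0 0 (1 : ResK M)))
    have h := hlin a
    simp only [Sys.algRep_rep, ha, Matrix.trace_toLin'_eq] at h
    rw [Finset.sum_eq_single i (fun j _ hj => by simp [Pi.single_eq_of_ne hj]) (by simp),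
      Pi.single_eq_same, Matrix.trace_single_eq_same, mul_one] at h
    simpa using h
  have h1 : (A.map (resK hM)).rank = S.s := by
    rw [Matrix.rank, LinearMap.finrank_range_of_inj hinj, Module.finrank_fintype_fun_eq_card,
      Fintype.card_fin]
  have h2 : S.s ≤ (A.map (lRing hM).subtype).rank := h1.symm.le.trans (rank_red_le hM A)
  have h3 := LinearMap.finrank_range_add_finrank_ker (A.map (lRing hM).subtype).mulVecLin
  rw [Module.finrank_fintype_fun_eq_card, Fintype.card_fin] at h3
  have h4 : LinearMap.ker (A.map (lRing hM).subtype).mulVecLin = ⊥ :=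
    Submodule.finrank_eq_zero.1 (by rw [Matrix.rank] at h2; omega)
  rw [Fintype.linearIndependent_iff]
  intro c hc
  have hk : c ∈ LinearMap.ker (A.map (lRing hM).subtype).mulVecLin := by
    rw [LinearMap.mem_ker]
    funext g
    have := congrFun hc g.1
    simpa [Matrix.mulVec, dotProduct, A, mul_comm] using this
  rw [h4, Submodule.mem_bot] at hk
  exact congrFun hk

end CfsgLib.ModRep
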