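import Cfsg.Agent.Lib.BrauerPairs.Core
import Mathlib.LinearAlgebra.Trace
import Mathlib.LinearAlgebra.Matrix.Rank
import Mathlib.LinearAlgebra.Projection

/-!
# Ranks of idempotents modulo the maximal ideal
-/

set_option autoImplicit false
set_option linter.unusedSectionVars false
set_option linter.style.haveILetI false

namespace CfsgLib.ModRep

open Cfsg CfsgLib.Blocks CfsgLib.BrauerPairs

section Field

variable {K : Type*} [Field K] {ι κ : Type*} [Fintype ι] [Fintype κ] [DecidableEq ι] [DecidableEq κ]

/-- A rank `s` is witnessed by a left and a right factor giving the identity. -/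
theorem exists_mul_mul_eq_one (A : Matrix ι κ K) :
    ∃ (D : Matrix (Fin A.rank) ι K) (U : Matrix κ (Fin A.rank) K), D * A * U = 1 := by
  classical
  let S := LinearMap.range A.mulVecLin
  let b : Module.Basis (Fin A.rank) K S := Module.finBasisOfFinrankEq K S rfl
  have hpre : ∀ i, ∃ u : κ → K, A.mulVecLin u = (b i : ι → K) := fun i => (b i).2
  choose u hu using hpre
  obtain ⟨π, hπ⟩ := LinearMap.exists_extend b.equivFun.toLinearMap
  refine ⟨LinearMap.toMatrix' π, Matrix.of fun j i => u i j, ?_⟩
  ext r c
  have h1 : (LinearMap.toMatrix' π).mulVec (A.mulVec (u c)) r = (1 : Matrix (Fin A.rank) (Fin A.rank) K) r c := by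
    rw [LinearMap.toMatrix'_mulVec, show A.mulVec (u c) = (b c : ι → K) from hu c,
      show π (b c : ι → K) = b.equivFun (b c) from LinearMap.congr_fun hπ (b c)]
    simp [Matrix.one_apply, Finsupp.single_apply, eq_comm]
  rw [← h1, Matrix.mulVec_mulVec]
  rfl

theorem rank_add_rank_of_idem (A : Matrix ι ι K) (h : A * A = A) :
    A.rank + (1 - A).rank = Fintype.card ι := by
  have hI : IsIdempotentElem A.mulVecLin := by
    rw [IsIdempotentElem, Module.End.mul_eq_comp, ← Matrix.mulVecLin_mul, h]
  have hk : LinearMap.range (1 - A).mulVecLin = LinearMap.ker A.mulVecLin := by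
    rw [show (1 - A).mulVecLin = 1 - A.mulVecLin from LinearMap.ext fun v => by
      simp [Matrix.sub_mulVec]]
    ext v
    simp only [LinearMap.mem_range, LinearMap.mem_ker, LinearMap.sub_apply, Module.End.one_apply]
    constructor
    · rintro ⟨w, rfl⟩
      have : A.mulVecLin (A.mulVecLin w) = A.mulVecLin w := LinearMap.congr_fun hI w
      rw [map_sub, this, sub_self]
    · intro hv
      exact ⟨v, by rw [hv, sub_zero]⟩
  unfold Matrix.rank
  rw [hk, LinearMap.finrank_range_add_finrank_ker, Module.finrank_fintype_fun_eq_card]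

theorem trace_eq_rank (A : Matrix ι ι K) (h : A * A = A) : A.trace = (A.rank : K) := by
  have hp : LinearMap.IsProj (LinearMap.range A.mulVecLin) A.mulVecLin := by
    refine ⟨fun v => LinearMap.mem_range_self _ v, ?_⟩
    rintro _ ⟨w, rfl⟩
    rw [Matrix.mulVecLin_apply, Matrix.mulVecLin_apply, Matrix.mulVec_mulVec, h]
  rw [Matrix.rank, ← hp.trace, ← Matrix.toLin'_apply', Matrix.trace_toLin'_eq]

/-- The dimension of the image of a map is the rank of its matrix. -/
theorem finrank_range_eq_rank {V : Type*} [AddCommGroup V] [Module K V] (b : Module.Basis ι K V)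
    (f : V →ₗ[K] V) :
    Module.finrank K (LinearMap.range f) = (LinearMap.toMatrix b b f).rank := by
  rw [Matrix.rank_eq_finrank_range_toLin _ b b, Matrix.toLin_toMatrix]

end Field

variable {p : ℕ} {M : Ideal AlgInt} [M.IsMaximal] {ι κ : Type*} [Fintype ι] [Fintype κ]
  [DecidableEq ι] [DecidableEq κ]

/-- The rank does not grow under reduction. -/
theorem rank_red_le (hM : IsPModular p M) (A : Matrix ι κ (lRing hM)) :
    (A.map (resK hM)).rank ≤ (A.map (lRing hM).subtype).rank := by
  classical
  obtain ⟨D, U, h⟩ := exists_mul_mul_eq_one (A.map (resK hM))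
  obtain ⟨lift, hlift⟩ := (resK_surjective hM).hasRightInverse
  let X : Matrix (Fin (A.map (resK hM)).rank) (Fin (A.map (resK hM)).rank) (lRing hM) := D.map lift * A * U.map lift
  have hX : X.map (resK hM) = 1 := by
    simp only [X]
    rw [Matrix.map_mul, Matrix.map_mul, Matrix.map_map, Matrix.map_map]
    rw [show D.map (⇑(resK hM) ∘ lift) = D from Matrix.ext fun i j => hlift _,
      show U.map (⇑(resK hM) ∘ lift) = U from Matrix.ext fun i j => hlift _]; exact h
  have hdet : X.det ≠ 0 := by
    intro h0
    have h1 := RingHom.map_det (resK hM) X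
    rw [h0, map_zero, RingHom.mapMatrix_apply, hX, Matrix.det_one] at h1
    exact zero_ne_one h1
  have hdet' : (X.map (lRing hM).subtype).det ≠ 0 := by
    rw [← RingHom.mapMatrix_apply, ← RingHom.map_det]
    exact fun h0 => hdet (Subtype.ext h0)
  have hu : IsUnit (X.map (lRing hM).subtype) :=
    (Matrix.isUnit_iff_isUnit_det _).2 (isUnit_iff_ne_zero.2 hdet')
  have hr := Matrix.rank_of_isUnit _ hu
  rw [Fintype.card_fin] at hr
  refine hr.symm.le.trans ?_
  simp only [X]
  rw [Matrix.map_mul, Matrix.map_mul]
  exact (Matrix.rank_mul_le_left _ _).trans (Matrix.rank_mul_le_right _ _)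

/-- An idempotent has the same rank as its reduction. -/
theorem rank_red_eq (hM : IsPModular p M) (A : Matrix ι ι (lRing hM)) (h : A * A = A) :
    (A.map (resK hM)).rank = (A.map (lRing hM).subtype).rank := by
  have key : ∀ (R : Type) (_ : Field R) (f : lRing hM →+* R),
      (A.map f).rank + ((1 - A).map f).rank = Fintype.card ι := by
    intro R _ f
    rw [Matrix.map_sub _ (map_sub f), Matrix.map_one _ (map_zero f) (map_one f)]
    exact rank_add_rank_of_idem _ (by rw [← Matrix.map_mul, h])
  have h1 := key (ResK M) inferInstance (resK hM)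
  have h2 := key ℂ inferInstance (lRing hM).subtype
  have h3 := rank_red_le hM A
  have h4 := rank_red_le hM (1 - A)
  omega

end CfsgLib.ModRep
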